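import Groth.Agent.KTheory.LocFree
import Groth.Agent.QCohMod.PullbackQCoh
import Groth.Agent.PicAux.Sections
import Groth.Prelude.Def_CohB1

/-!
# Finite locally free modules: bases, rank, pullback, finite presentation
-/

universe u

open CategoryTheory CategoryTheory.Limits AlgebraicGeometry Opposite TopologicalSpace

namespace Groth.LocFree

open Groth.PicAux

variable {X Y : Scheme.{u}} {M N : X.Modules}

/-- A local basis near `x` from a trivialisation. -/
theorem exists_basis_of_iso {U : X.Opens} {n : ℕ} (e : M.restrict U.ι ≅ FlatMod.freeMod (↑U) n) :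
    ∃ s : Fin n → Γ(M, U), Basis' M U s := by
  obtain ⟨d⟩ := exists_split_free (X := (U : Scheme.{u})) n
  have h := d.basis.map e.inv
  have hle : U ≤ U.ι ''ᵁ ⊤ := (Scheme.Opens.ι_image_top U).ge
  refine ⟨fun i => res M hle (e.inv.app ⊤ ((d.s i).app ⊤ (oneSec _ ⊤)) : Γ(M, U.ι ''ᵁ ⊤)), ?_⟩
  rw [basis'_iff_restrict]
  refine (congrArg (Basis' (M.restrict U.ι) ⊤) (funext fun i => ?_)).mpr h
  exact (res_res (M := M) _ _ _).trans (res_self _ _)

/-- A trivialisation from a local basis. -/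
theorem nonempty_iso_of_basis {U : X.Opens} {n : ℕ} {s : Fin n → Γ(M, U)} (hs : Basis' M U s) :
    Nonempty (M.restrict U.ι ≅ FlatMod.freeMod (↑U) n) := by
  rw [basis'_iff_restrict] at hs
  obtain ⟨d, -⟩ := hs.exists_split
  exact ⟨KTheory.LocFree.splitIso d⟩

theorem isFinLocFreeOfRank_iff {n : ℕ} : FlatMod.IsFinLocFreeOfRank n M ↔
    ∀ x : X, ∃ (U : X.Opens) (s : Fin n → Γ(M, U)), x ∈ U ∧ Basis' M U s := by
  refine forall_congr' fun x => ⟨?_, ?_⟩
  · rintro ⟨U, hx, ⟨e⟩⟩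
    obtain ⟨s, hs⟩ := exists_basis_of_iso e
    exact ⟨U, s, hx, hs⟩
  · rintro ⟨U, s, hx, hs⟩
    exact ⟨U, hx, nonempty_iso_of_basis hs⟩

/-- Near every point a finite locally free module has a basis on an affine open. -/
theorem exists_affine_basis (h : FlatMod.IsFinLocFree M) (x : X) :
    ∃ (U : X.Opens) (n : ℕ) (s : Fin n → Γ(M, U)), IsAffineOpen U ∧ x ∈ U ∧ Basis' M U s := by
  obtain ⟨U, n, s, hx, hs⟩ := exists_basis_of_isFinLocFree h x
  obtain ⟨_, ⟨V, hV, rfl⟩, hxV, hVU⟩ := X.isBasis_affineOpens.exists_subset_of_mem_open hx U.2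
  exact ⟨V, n, _, hV, hxV, hs.res' hVU⟩

/-- Near every point a locally free module of rank `n` has a basis on an affine open. -/
theorem exists_affine_basis_ofRank {n : ℕ} (h : FlatMod.IsFinLocFreeOfRank n M) (x : X) :
    ∃ (U : X.Opens) (s : Fin n → Γ(M, U)), IsAffineOpen U ∧ x ∈ U ∧ Basis' M U s := by
  obtain ⟨U, s, hx, hs⟩ := isFinLocFreeOfRank_iff.1 h x
  obtain ⟨_, ⟨V, hV, rfl⟩, hxV, hVU⟩ := X.isBasis_affineOpens.exists_subset_of_mem_open hx U.2
  exact ⟨V, _, hV, hxV, hs.res' hVU⟩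

theorem isFinLocFree_of_rank {n : ℕ} (h : FlatMod.IsFinLocFreeOfRank n M) :
    FlatMod.IsFinLocFree M := fun x =>
  let ⟨U, hx, he⟩ := h x
  ⟨U, n, hx, he⟩

theorem isFinLocFreeOfRank_of_iso {n : ℕ} (e : M ≅ N) (h : FlatMod.IsFinLocFreeOfRank n M) :
    FlatMod.IsFinLocFreeOfRank n N := fun x =>
  let ⟨U, hx, ⟨e'⟩⟩ := h x
  ⟨U, hx, ⟨((Scheme.Modules.restrictFunctor U.ι).mapIso e).symm ≪≫ e'⟩⟩

/-- The pullback of a finite locally free module is finite locally free. -/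
theorem isFinLocFree_pullback (f : Y ⟶ X) (h : FlatMod.IsFinLocFree M) :
    FlatMod.IsFinLocFree ((Scheme.Modules.pullback f).obj M) := by
  rw [KTheory.LocFree.isFinLocFree_iff] at h ⊢
  intro y
  obtain ⟨U, n, s, hx, hs⟩ := h (f.base y)
  exact ⟨f ⁻¹ᵁ U, n, _, hx, hs.pull f⟩

/-- The pullback of a locally free module of rank `n` has rank `n`. -/
theorem isFinLocFreeOfRank_pullback (f : Y ⟶ X) {n : ℕ} (h : FlatMod.IsFinLocFreeOfRank n M) :
    FlatMod.IsFinLocFreeOfRank n ((Scheme.Modules.pullback f).obj M) := by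
  rw [isFinLocFreeOfRank_iff] at h ⊢
  intro y
  obtain ⟨U, s, hx, hs⟩ := h (f.base y)
  exact ⟨f ⁻¹ᵁ U, _, hx, hs.pull f⟩

theorem isFinLocFree_restrict (f : Y ⟶ X) [IsOpenImmersion f] (h : FlatMod.IsFinLocFree M) :
    FlatMod.IsFinLocFree (M.restrict f) :=
  KTheory.LocFree.isFinLocFree_of_iso ((Scheme.Modules.restrictFunctorIsoPullback f).app M).symm
    (isFinLocFree_pullback f h)

theorem isFinLocFreeOfRank_restrict (f : Y ⟶ X) [IsOpenImmersion f] {n : ℕ}
    (h : FlatMod.IsFinLocFreeOfRank n M) : FlatMod.IsFinLocFreeOfRank n (M.restrict f) :=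
  isFinLocFreeOfRank_of_iso ((Scheme.Modules.restrictFunctorIsoPullback f).app M).symm
    (isFinLocFreeOfRank_pullback f h)

/-- A module with a basis over the whole space is locally free. -/
theorem isFinLocFreeOfRank_of_basis {n : ℕ} {s : Fin n → Γ(M, ⊤)} (hs : Basis' M ⊤ s) :
    FlatMod.IsFinLocFreeOfRank n M :=
  isFinLocFreeOfRank_iff.2 fun _ => ⟨⊤, s, trivial, hs⟩

theorem exists_basis_freeMod (n : ℕ) :
    ∃ s : Fin n → Γ(FlatMod.freeMod X n, ⊤), Basis' (FlatMod.freeMod X n) ⊤ s := by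
  obtain ⟨d⟩ := exists_split_free (X := X) n
  exact ⟨_, d.basis⟩

theorem isFinLocFreeOfRank_freeMod (X : Scheme.{u}) (n : ℕ) :
    FlatMod.IsFinLocFreeOfRank n (FlatMod.freeMod X n) := by
  obtain ⟨s, hs⟩ := exists_basis_freeMod (X := X) n
  exact isFinLocFreeOfRank_of_basis hs

theorem isFinLocFree_freeMod (X : Scheme.{u}) (n : ℕ) :
    FlatMod.IsFinLocFree (FlatMod.freeMod X n) :=
  isFinLocFree_of_rank (isFinLocFreeOfRank_freeMod X n)

theorem isInvertible_iff_ofRank_one : PicF.IsInvertible M ↔ FlatMod.IsFinLocFreeOfRank 1 M := by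
  rw [isInvertible_iff_exists_gen, isFinLocFreeOfRank_iff]
  have key : ∀ (V : X.Opens) (m : Γ(M, V)),
      (Function.Bijective fun r : Fin 1 → Γ(X, V) => ∑ i, r i • m) ↔
        Function.Bijective fun r : Γ(X, V) => r • m := by
    intro V m
    have e : (fun r : Fin 1 → Γ(X, V) => ∑ i, r i • m) =
        (fun r : Γ(X, V) => r • m) ∘ Equiv.funUnique (Fin 1) Γ(X, V) := by
      funext r
      simp
    rw [e]
    exact Function.Bijective.of_comp_iff _ (Equiv.bijective _)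
  refine forall_congr' fun x => ⟨?_, ?_⟩
  · rintro ⟨U, s, hx, hs⟩
    exact ⟨U, fun _ => s, hx, fun V h => (key V _).2 (hs V h)⟩
  · rintro ⟨U, s, hx, hs⟩
    refine ⟨U, s 0, hx, fun V h => (key V _).1 ?_⟩
    have := hs V h
    convert this using 2 with r
    simp

theorem isFinLocFreeOfRank_unit (X : Scheme.{u}) :
    FlatMod.IsFinLocFreeOfRank 1 (Coh.structureModule X) :=
  isInvertible_iff_ofRank_one.1
    ((isInvertible_iff_exists_gen _).2 fun _ => ⟨⊤, _, trivial, gen_oneSec ⊤⟩)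

theorem isFinLocFree_unit (X : Scheme.{u}) : FlatMod.IsFinLocFree (Coh.structureModule X) :=
  isFinLocFree_of_rank (isFinLocFreeOfRank_unit X)

/-- The rank is unique on a nonempty scheme. -/
theorem rank_unique {m n : ℕ} (hm : FlatMod.IsFinLocFreeOfRank m M)
    (hn : FlatMod.IsFinLocFreeOfRank n M) (x : X) : m = n := by
  obtain ⟨U, s, hxU, hs⟩ := isFinLocFreeOfRank_iff.1 hm x
  obtain ⟨V, t, hxV, ht⟩ := isFinLocFreeOfRank_iff.1 hn x
  obtain ⟨_, ⟨W, hW, rfl⟩, hxW, hWUV⟩ :=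
    X.isBasis_affineOpens.exists_subset_of_mem_open (show x ∈ ((U ⊓ V : X.Opens) : Set X) from
      ⟨hxU, hxV⟩) (U ⊓ V).2
  have hW' : W ≤ U ⊓ V := hWUV
  have b₁ := hs W (hW'.trans inf_le_left)
  have b₂ := ht W (hW'.trans inf_le_right)
  have : Nontrivial Γ(X, W) := by
    have : Nonempty W := ⟨⟨x, hxW⟩⟩
    exact (X.presheaf.germ W x hxW).hom.domain_nontrivial
  let e : ∀ {k : ℕ} (w : Fin k → Γ(M, W)),
      (Function.Bijective fun r : Fin k → Γ(X, W) => ∑ i, r i • w i) →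
        (Fin k → Γ(X, W)) ≃ₗ[Γ(X, W)] Γ(M, W) := fun w hw =>
    LinearEquiv.ofBijective (Fintype.linearCombination Γ(X, W) w) (by
      convert hw using 1
      funext r
      exact Fintype.linearCombination_apply _ _ _)
  have := LinearEquiv.finrank_eq ((e _ b₁).trans (e _ b₂).symm)
  simpa using this

end Groth.LocFree
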