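import Groth.Agent.LocFree.Affine

/-!
# Rank of finite locally free modules
-/

universe u

open CategoryTheory AlgebraicGeometry Opposite TopologicalSpace

namespace Groth.LocFree

open Groth.PicAux

variable {X : Scheme.{u}} {M : X.Modules}

/-- The germs of a basis form a basis of the stalk of a quasi-coherent module. -/
theorem nonempty_stalk_basis [M.IsQuasicoherent] {U : X.Opens} {n : ℕ} {s : Fin n → Γ(M, U)}
    (hs : Basis' M U s) {x : X} (hx : x ∈ U) :
    Nonempty (Module.Basis (Fin n) (X.presheaf.stalk x) (M.presheaf.stalk x)) := by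
  obtain ⟨_, ⟨V, hV, rfl⟩, hxV, hVU⟩ := X.isBasis_affineOpens.exists_subset_of_mem_open hx U.2
  let _ := Groth.QCohMod.stalkModule M x hxV
  let _ : Algebra Γ(X, V) (X.presheaf.stalk x) :=
    TopCat.Presheaf.algebra_section_stalk X.presheaf ⟨x, hxV⟩
  have : IsLocalization.AtPrime (X.presheaf.stalk x) (hV.primeIdealOf ⟨x, hxV⟩).asIdeal :=
    hV.isLocalization_stalk ⟨x, hxV⟩
  have := Groth.QCohMod.isLocalizedModule_germ M hV x hxV
  have : IsScalarTower Γ(X, V) (X.presheaf.stalk x) (M.presheaf.stalk x) :=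
    ⟨fun r s m => mul_smul (X.presheaf.germ V x hxV r) s m⟩
  exact ⟨(basisOfBasis' hs hVU).ofIsLocalizedModule (X.presheaf.stalk x)
    (hV.primeIdealOf ⟨x, hxV⟩).asIdeal.primeCompl (Groth.QCohMod.germₗ M x hxV)⟩

theorem finrank_stalk_of_basis [M.IsQuasicoherent] {U : X.Opens} {n : ℕ} {s : Fin n → Γ(M, U)}
    (hs : Basis' M U s) {x : X} (hx : x ∈ U) :
    Module.finrank (X.presheaf.stalk x) (M.presheaf.stalk x) = n := by
  obtain ⟨b⟩ := nonempty_stalk_basis hs hx
  simpa using Module.finrank_eq_card_basis b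

theorem finite_stalk (h : FlatMod.IsFinLocFree M) (x : X) :
    Module.Finite (X.presheaf.stalk x) (M.presheaf.stalk x) := by
  have := KTheory.LocFree.isQCoh h
  obtain ⟨U, n, s, hx, hs⟩ := exists_basis_of_isFinLocFree h x
  obtain ⟨b⟩ := nonempty_stalk_basis hs hx
  exact .of_basis b

/-- Rank `n` means that all stalks have rank `n`. -/
theorem isFinLocFreeOfRank_iff_finrank {n : ℕ} : FlatMod.IsFinLocFreeOfRank n M ↔
    FlatMod.IsFinLocFree M ∧
      ∀ x : X, Module.finrank (X.presheaf.stalk x) (M.presheaf.stalk x) = n := by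
  refine ⟨fun h => ⟨isFinLocFree_of_rank h, fun x => ?_⟩, fun ⟨h, hn⟩ => ?_⟩
  · have := KTheory.LocFree.isQCoh (isFinLocFree_of_rank h)
    obtain ⟨U, s, hx, hs⟩ := isFinLocFreeOfRank_iff.1 h x
    exact finrank_stalk_of_basis hs hx
  · have := KTheory.LocFree.isQCoh h
    rw [isFinLocFreeOfRank_iff]
    intro x
    obtain ⟨U, m, s, hx, hs⟩ := exists_basis_of_isFinLocFree h x
    obtain rfl : m = n := (finrank_stalk_of_basis hs hx).symm.trans (hn x)
    exact ⟨U, s, hx, hs⟩

theorem finrank_stalk {n : ℕ} (h : FlatMod.IsFinLocFreeOfRank n M) (x : X) :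
    Module.finrank (X.presheaf.stalk x) (M.presheaf.stalk x) = n :=
  (isFinLocFreeOfRank_iff_finrank.1 h).2 x

/-- The rank at a prime of the sections over an affine open is the rank of the stalk. -/
theorem rankAtStalk_sections (h : FlatMod.IsFinLocFree M) {U : X.Opens} (hU : IsAffineOpen U)
    {x : X} (hx : x ∈ U) :
    Module.rankAtStalk Γ(M, U) (hU.primeIdealOf ⟨x, hx⟩) =
      Module.finrank (X.presheaf.stalk x) (M.presheaf.stalk x) := by
  have := KTheory.LocFree.isQCoh h
  have := finitePresentation_sections h hU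
  have := KTheory.LocFree.free_stalk h x
  obtain ⟨g, n, m, hg, hn, hm⟩ := exists_basis_of_free_stalk (M := M) hU hx
  rw [finrank_stalk_of_basis hm hg, hn]

theorem rankAtStalk_sections_ofRank {n : ℕ} (h : FlatMod.IsFinLocFreeOfRank n M) {U : X.Opens}
    (hU : IsAffineOpen U) (p : PrimeSpectrum Γ(X, U)) :
    Module.rankAtStalk Γ(M, U) p = n := by
  have hxU : hU.fromSpec p ∈ U := by
    rw [← SetLike.mem_coe, ← hU.range_fromSpec]
    exact ⟨p, rfl⟩
  have hp : hU.primeIdealOf ⟨hU.fromSpec p, hxU⟩ = p :=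
    hU.fromSpec.isOpenEmbedding.injective (hU.fromSpec_primeIdealOf ⟨hU.fromSpec p, hxU⟩)
  rw [← hp, rankAtStalk_sections (isFinLocFree_of_rank h) hU hxU, finrank_stalk h]

end Groth.LocFree
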