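import Groth.Agent.LocFree.Basic
import Groth.Agent.QCohMod.FTCriterion
import Mathlib.RingTheory.Finiteness.Finsupp
import Mathlib.Algebra.Module.FinitePresentation

/-!
# Modules of finite presentation through affine sections
-/

universe u

open CategoryTheory CategoryTheory.Limits AlgebraicGeometry Opposite TopologicalSpace

namespace Groth.LocFree

open Groth.QCohMod

variable {X : Scheme.{u}}

/-- The free module on a type, as an `O_X`-module. -/
noncomputable abbrev freeOn (X : Scheme.{u}) (ι : Type u) : X.Modules :=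
  SheafOfModules.free (R := X.ringCatSheaf) ι

/-- Bases give finite projective (indeed free) sections. -/
noncomputable def basisOfBasis' {M : X.Modules} {U : X.Opens} {n : ℕ} {s : Fin n → Γ(M, U)}
    (hs : PicAux.Basis' M U s) {V : X.Opens} (h : V ≤ U) :
    Module.Basis (Fin n) Γ(X, V) Γ(M, V) :=
  Module.Basis.ofEquivFun (LinearEquiv.ofBijective
    (Fintype.linearCombination Γ(X, V) fun i => PicAux.res M h (s i)) (by
      convert hs V h using 1
      funext r
      exact Fintype.linearCombination_apply _ _ _)).symm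

lemma basisOfBasis'_apply {M : X.Modules} {U : X.Opens} {n : ℕ} {s : Fin n → Γ(M, U)}
    (hs : PicAux.Basis' M U s) {V : X.Opens} (h : V ≤ U) (i : Fin n) :
    basisOfBasis' hs h i = PicAux.res M h (s i) := by
  classical
  simp [basisOfBasis', Module.Basis.coe_ofEquivFun, Fintype.linearCombination_apply]

/-- The free module on a finite type has a basis over the whole space. -/
theorem exists_basis_free (ι : Type u) [Finite ι] :
    ∃ (n : ℕ) (s : Fin n → Γ((freeOn X ι), ⊤)),
      PicAux.Basis' (freeOn X ι) ⊤ s := by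
  cases nonempty_fintype ι
  obtain ⟨s, hs⟩ := exists_basis_freeMod (X := X) (Fintype.card ι)
  let e : FlatMod.freeMod X (Fintype.card ι) ≅
      (freeOn X ι) :=
    Sigma.whiskerEquiv (g := fun _ : ι => Coh.structureModule X) (Fintype.equivFin ι).symm
      fun _ => Iso.refl _
  have : IsIso e.hom := ⟨e.inv, e.hom_inv_id, e.inv_hom_id⟩
  exact ⟨_, _, hs.map e.hom⟩

theorem finite_sections_free (ι : Type u) [Finite ι] :
    Module.Finite Γ(X, ⊤) Γ((freeOn X ι), ⊤) := by
  obtain ⟨n, s, hs⟩ := exists_basis_free (X := X) ι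
  exact .of_basis (basisOfBasis' hs le_rfl)

/-- On an affine scheme, finitely presented global sections give a finite presentation. -/
theorem exists_presentation_of_finitePresentation [IsAffine X] (M : X.Modules) [M.IsQuasicoherent]
    (h : Module.FinitePresentation Γ(X, ⊤) Γ(M, (⊤ : X.Opens))) :
    ∃ p : SheafOfModules.Presentation (R := X.ringCatSheaf) M, p.IsFinite := by
  obtain ⟨G, hG⟩ := exists_generators_of_finite M inferInstance
  have : (freeOn X G.I).IsQuasicoherent := isQCoh_free X G.I
  have := finite_sections_free (X := X) G.I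
  let π : (freeOn X G.I) ⟶ M := G.π
  have : Epi π := G.epi
  let S : ShortComplex X.Modules := ShortComplex.mk (kernel.ι π) π (kernel.condition π)
  have hS : S.Exact := S.exact_of_f_is_kernel (kernelIsKernel π)
  have : Mono S.f := inferInstanceAs (Mono (kernel.ι π))
  have hfin : Module.Finite Γ(X, ⊤) Γ((kernel π : X.Modules), (⊤ : X.Opens)) := by
    have hfg := Module.FinitePresentation.fg_ker (appₗ π ⊤)
      (app_surjective_of_epi π (isAffineOpen_top X))
    have hr : LinearMap.range (appₗ (kernel.ι π) ⊤) = LinearMap.ker (appₗ π ⊤) := by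
      refine le_antisymm ?_ fun m hm => ?_
      · rintro _ ⟨a, rfl⟩
        exact congr(($(kernel.condition π)).app ⊤ a)
      · obtain ⟨a, ha⟩ := exists_app_eq_of_mono_exact hS ⊤ m hm
        exact ⟨a, ha⟩
    rw [← hr] at hfg
    have : Module.Finite Γ(X, ⊤) (LinearMap.range (appₗ (kernel.ι π) ⊤)) := Module.Finite.iff_fg.2 hfg
    exact Module.Finite.equiv (LinearEquiv.ofInjective (appₗ (kernel.ι π) ⊤)
      (app_injective_of_mono (kernel.ι π) ⊤)).symm
  obtain ⟨H, hH⟩ := exists_generators_of_finite (kernel π : X.Modules) hfin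
  exact ⟨⟨G, H⟩, ⟨⟨hG⟩, ⟨hH⟩⟩⟩

lemma finitePresentation_restrict_sections (M : X.Modules) (W : X.Opens)
    (h : Module.FinitePresentation Γ(X, W) Γ(M, W)) :
    Module.FinitePresentation Γ((W : Scheme.{u}), ⊤) Γ(M.restrict W.ι, ⊤) := by
  have hW : W.ι ''ᵁ ⊤ = W := Scheme.Opens.ι_image_top W
  have key : ∀ V : X.Opens, W = V → Module.FinitePresentation Γ(X, V) Γ(M, V) := by
    rintro _ rfl; exact h
  have := key _ hW.symm
  let σ := (W.ι.appIso ⊤).inv
  let _ : Algebra Γ((W : Scheme.{u}), ⊤) Γ(X, W.ι ''ᵁ ⊤) := σ.hom.toAlgebra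
  have hσ : Function.Bijective σ.hom := ConcreteCategory.bijective_of_isIso σ
  have hFP : Module.FinitePresentation Γ((W : Scheme.{u}), ⊤) Γ(X, W.ι ''ᵁ ⊤) :=
    .of_equiv (LinearEquiv.ofBijective (Algebra.linearMap _ _) hσ)
  let _ : Module Γ((W : Scheme.{u}), ⊤) Γ(M, W.ι ''ᵁ ⊤) :=
    (inferInstance : Module Γ((W : Scheme.{u}), ⊤) Γ(M.restrict W.ι, ⊤))
  have : IsScalarTower Γ((W : Scheme.{u}), ⊤) Γ(X, W.ι ''ᵁ ⊤) Γ(M, W.ι ''ᵁ ⊤) :=
    ⟨fun r s m => mul_smul (σ.hom r) s m⟩
  exact Module.FinitePresentation.trans (R := Γ((W : Scheme.{u}), ⊤)) Γ(M, W.ι ''ᵁ ⊤) Γ(X, W.ι ''ᵁ ⊤)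

/-- A quasi-coherent module with finitely presented sections on an affine cover is of finite
presentation. -/
theorem isFP_of_affine_cover (M : X.Modules) [M.IsQuasicoherent]
    (h : ∀ x, ∃ U : X.Opens, IsAffineOpen U ∧ x ∈ U ∧ Module.FinitePresentation Γ(X, U) Γ(M, U)) :
    CohB1.IsFP M := by
  choose U hU hxU hfp using h
  have hp (x : X) : ∃ p : (M.restrict (U x).ι).Presentation, p.IsFinite := by
    have : IsAffine (U x : Scheme.{u}) := hU x
    exact exists_presentation_of_finitePresentation _ (finitePresentation_restrict_sections M (U x) (hfp x))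
  choose p hp using hp
  exact isFP_of_cover M U (fun x => ⟨x, hxU x⟩) p hp

/-- Finite locally free modules are of finite presentation. -/
theorem isFP {M : X.Modules} (h : FlatMod.IsFinLocFree M) : CohB1.IsFP M := by
  have := KTheory.LocFree.isQCoh h
  refine isFP_of_affine_cover M fun x => ?_
  obtain ⟨U, n, s, hU, hx, hs⟩ := exists_affine_basis h x
  have b := basisOfBasis' hs (le_refl U)
  have : Module.Free Γ(X, U) Γ(M, U) := .of_basis b
  have : Module.Finite Γ(X, U) Γ(M, U) := .of_basis b
  exact ⟨U, hU, hx, Module.finitePresentation_of_projective _ _⟩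

end Groth.LocFree
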