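import Groth.Agent.QCohMod.ClosedImm
import Groth.Agent.PicAux.Sections
import Groth.Agent.KTheory.LocFree

/-!
# Morphisms of modules given on affine opens
-/

universe u

open CategoryTheory AlgebraicGeometry Opposite TopologicalSpace

namespace Groth.LocFree

open Groth.PicAux

variable {X : Scheme.{u}}

/-- A morphism of modules from compatible maps of sections over affine opens. -/
theorem exists_hom_of_affine {L M : X.Modules}
    (f : ∀ U : X.Opens, IsAffineOpen U → (Γ(L, U) →ₗ[Γ(X, U)] Γ(M, U)))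
    (hf : ∀ U V (hU : IsAffineOpen U) (hV : IsAffineOpen V) (h : V ≤ U) x,
      res M h (f U hU x) = f V hV (res L h x)) :
    ∃ φ : L ⟶ M, ∀ U (hU : IsAffineOpen U) x, φ.app U x = f U hU x := by
  let ι := X.affineOpens
  let U : ι → X.Opens := fun W => W.1
  -- on an open `V ≤ U i` glue over the affine opens inside `V`
  have key : ∀ (V : X.Opens) (x : Γ(L, V)), ∃! y : Γ(M, V), ∀ W : {W : X.affineOpens // W.1 ≤ V},
      res M W.2 y = f W.1.1 W.1.2 (res L W.2 x) := by
    intro V x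
    have hcov : V ≤ ⨆ W : {W : X.affineOpens // W.1 ≤ V}, W.1.1 := fun z hz => by
      obtain ⟨_, ⟨W, hW, rfl⟩, hzW, hWV⟩ := X.isBasis_affineOpens.exists_subset_of_mem_open hz V.2
      exact Opens.mem_iSup.2 ⟨⟨⟨W, hW⟩, hWV⟩, hzW⟩
    refine res_glue (fun W : {W : X.affineOpens // W.1 ≤ V} => W.1.1) (fun W => W.2) hcov _
      fun a b => ?_
    have hcov' : a.1.1 ⊓ b.1.1 ≤ ⨆ T : {T : X.affineOpens // T.1 ≤ a.1.1 ⊓ b.1.1}, T.1.1 :=
      fun z hz => by
        obtain ⟨_, ⟨T, hT, rfl⟩, hzT, hTV⟩ :=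
          X.isBasis_affineOpens.exists_subset_of_mem_open hz (a.1.1 ⊓ b.1.1).2
        exact Opens.mem_iSup.2 ⟨⟨⟨T, hT⟩, hTV⟩, hzT⟩
    refine res_ext (fun T : {T : X.affineOpens // T.1 ≤ a.1.1 ⊓ b.1.1} => T.1.1) (fun T => T.2)
      hcov' fun T => ?_
    rw [res_res, res_res, hf _ _ a.1.2 T.1.2 (T.2.trans inf_le_left),
      hf _ _ b.1.2 T.1.2 (T.2.trans inf_le_right), res_res, res_res]
  choose y hy huniq using key
  obtain ⟨φ, hφ⟩ := exists_hom_of_cover (U := fun _ : PUnit.{u + 1} => (⊤ : X.Opens)) (L := L)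
    (M := M) (by simp) (fun _ V _ x => y V x)
    (fun _ V _ a b => (huniq V _ _ fun W => by
      rw [res_add, res_add, map_add, hy V a W, hy V b W]).symm)
    (fun _ V _ r a => (huniq V _ _ fun W => by
      rw [res_smul, res_smul, map_smul, hy V a W]).symm)
    (fun _ V W _ h a => huniq W _ _ fun T => by
      rw [res_res, res_res]
      exact hy V a ⟨T.1, T.2.trans h⟩)
    (fun _ _ _ _ _ _ => rfl)
  refine ⟨φ, fun V hV x => ?_⟩
  rw [hφ ⟨⟩ V le_top x]
  have := hy V x ⟨⟨V, hV⟩, le_rfl⟩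
  rwa [res_self, res_self] at this

/-- A morphism bijective on arbitrarily small affine opens is an isomorphism. -/
theorem isIso_of_small_affine {M N : X.Modules} (φ : M ⟶ N)
    (h : ∀ (x : X) (W : X.Opens), x ∈ W → ∃ V : X.Opens, IsAffineOpen V ∧ x ∈ V ∧ V ≤ W ∧
      Function.Bijective (φ.app V)) : IsIso φ := by
  refine Groth.QCohMod.isIso_of_stalk φ fun x ↦
    (ConcreteCategory.isIso_iff_bijective _).mpr ⟨?_, fun t ↦ ?_⟩
  · refine (injective_iff_map_eq_zero ((Groth.QCohMod.stalk x).map φ).hom).mpr fun s hs ↦ ?_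
    obtain ⟨V, hxV, m, rfl⟩ := Groth.QCohMod.exists_germ M x s
    have hs' : Groth.QCohMod.germ N x hxV (φ.app V m) = 0 :=
      (Groth.QCohMod.stalk_map_germ φ x hxV m).symm.trans hs
    obtain ⟨W, i, i', hxW, e⟩ := KTheory.LocFree.exists_res_eq hxV hxV _ 0
      (hs'.trans (map_zero (Groth.QCohMod.germ N x hxV)).symm)
    obtain ⟨T, -, hxT, hTW, hb⟩ := h x W hxW
    have e2 := congrArg (res N hTW) e
    rw [res_res, res_res, res_zero, ← app_res] at e2
    have e3 := hb.1 (e2.trans (map_zero _).symm)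
    rw [← Groth.QCohMod.germ_res M (hTW.trans i) x hxT m, KTheory.LocFree.qres_eq, e3]
    exact map_zero _
  · obtain ⟨V, hxV, n, rfl⟩ := Groth.QCohMod.exists_germ N x t
    obtain ⟨T, -, hxT, hTV, hb⟩ := h x V hxV
    obtain ⟨m, hm⟩ := hb.2 (res N hTV n)
    refine ⟨Groth.QCohMod.germ M x hxT m, (Groth.QCohMod.stalk_map_germ φ x hxT m).trans ?_⟩
    rw [hm, ← KTheory.LocFree.qres_eq, Groth.QCohMod.germ_res]

end Groth.LocFree
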