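import Groth.Agent.LocFree.Algebra
import Groth.Agent.LocFree.FP

/-!
# Finite locally free modules through affine sections
-/

universe u

open CategoryTheory AlgebraicGeometry Opposite TopologicalSpace

namespace Groth.LocFree

open Groth.PicAux
open Groth.QCohMod (exists_pow_smul_eq_zero exists_pow_smul_eq_res)

variable {X : Scheme.{u}} {M : X.Modules}

section

variable [M.IsQuasicoherent] {U : X.Opens} (hU : IsAffineOpen U) (g : Γ(X, U)) {n : ℕ}

include hU

/-- Multiplication by powers of `g` clears denominators of a family of functions on `D(g)`. -/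
lemma exists_clear (r : Fin n → Γ(X, X.basicOpen g)) :
    ∃ (L : ℕ) (q : Fin n → Γ(X, U)), ∀ i,
      resX X (X.basicOpen_le g) (q i) = resX X (X.basicOpen_le g) g ^ L * r i := by
  have := hU.isLocalization_basicOpen g
  have hr : ∀ i, ∃ (l : ℕ) (q : Γ(X, U)),
      resX X (X.basicOpen_le g) q = resX X (X.basicOpen_le g) g ^ l * r i := by
    intro i
    obtain ⟨⟨q, _, l, rfl⟩, hq⟩ := IsLocalization.surj (M := Submonoid.powers g) (r i)
    refine ⟨l, q, ?_⟩
    rw [RingHom.algebraMap_toAlgebra, map_pow, mul_comm] at hq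
    exact hq.symm
  choose l q hq using hr
  refine ⟨∑ i, l i, fun i => g ^ ((∑ i, l i) - l i) * q i, fun i => ?_⟩
  rw [map_mul, map_pow, hq, ← mul_assoc, ← pow_add,
    Nat.sub_add_cancel (Finset.single_le_sum (fun j _ => Nat.zero_le (l j)) (Finset.mem_univ i))]

/-- A family which is a basis away from `g` restricts to a basis over `D(g)`. -/
theorem basis'_of_isBasisAway {m : Fin n → Γ(M, U)} (h : IsBasisAway g m) :
    Basis' M (X.basicOpen g) (fun i => res M (X.basicOpen_le g) (m i)) := by
  have hu := KTheory.LocFree.isUnit_resX hU g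
  refine KTheory.LocFree.basis'_of_affine (hU.basicOpen g) _ ⟨?_, fun y => ?_⟩
  · intro r r' e
    obtain ⟨L, q, hq⟩ := exists_clear hU g (fun i => r i - r' i)
    have h0 : res M (X.basicOpen_le g) (∑ i, q i • m i) = 0 := by
      rw [res_sum]
      simp only [res_smul, hq, mul_smul]
      rw [← Finset.smul_sum]
      simp only at e
      simp [sub_smul, Finset.sum_sub_distrib, e]
    obtain ⟨k, hk⟩ := exists_pow_smul_eq_zero M hU g _ h0
    rw [Finset.smul_sum] at hk
    simp only [smul_smul] at hk
    obtain ⟨j, hj⟩ := h.1 _ hk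
    funext i
    have h1 := congrArg (resX X (X.basicOpen_le g)) (hj i)
    simp only [map_mul, map_pow, hq, map_zero] at h1
    rwa [(hu.pow j).mul_right_eq_zero, (hu.pow k).mul_right_eq_zero, (hu.pow L).mul_right_eq_zero,
      sub_eq_zero] at h1
  · obtain ⟨k, b, hb⟩ := exists_pow_smul_eq_res M hU g y
    rw [KTheory.LocFree.qres_eq, KTheory.LocFree.qresFun_eq] at hb
    obtain ⟨l, c, hc⟩ := h.2 b
    have hv := hu.pow (l + k)
    refine ⟨fun i => ↑hv.unit⁻¹ * resX X (X.basicOpen_le g) (c i), ?_⟩
    have e2 : ∑ i, resX X (X.basicOpen_le g) (c i) • res M (X.basicOpen_le g) (m i) =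
        resX X (X.basicOpen_le g) g ^ (l + k) • y := by
      simp only [← res_smul, ← res_sum, ← hc]
      rw [res_smul, hb, map_pow, smul_smul, ← pow_add]
    simp only [mul_smul, ← Finset.smul_sum, e2]
    rw [smul_smul, IsUnit.val_inv_mul hv, one_smul]

/-- A basis over `D(g)` comes from a family which is a basis away from `g`. -/
theorem exists_isBasisAway_of_basis' {s : Fin n → Γ(M, X.basicOpen g)}
    (hs : Basis' M (X.basicOpen g) s) : ∃ m : Fin n → Γ(M, U), IsBasisAway g m := by
  have hu := KTheory.LocFree.isUnit_resX hU g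
  choose k b hb using fun i => exists_pow_smul_eq_res M hU g (s i)
  simp only [KTheory.LocFree.qres_eq, KTheory.LocFree.qresFun_eq] at hb
  have hs' := hs _ le_rfl
  simp only [res_self] at hs'
  let K := ∑ i, k i
  refine ⟨fun i => g ^ (K - k i) • b i, fun c hc => ?_, fun x => ?_⟩
  · have e : ∑ i, (resX X (X.basicOpen_le g) (c i) * resX X (X.basicOpen_le g) g ^ K) • s i = 0 := by
      have h1 := congrArg (res M (X.basicOpen_le g)) hc
      simp only [res_sum, res_smul, hb, res_zero, smul_smul] at h1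
      refine Eq.trans (Finset.sum_congr rfl fun i _ => ?_) h1
      rw [map_mul, map_pow, mul_assoc, ← pow_add, Nat.sub_add_cancel
        (Finset.single_le_sum (fun j _ => Nat.zero_le (k j)) (Finset.mem_univ i))]
    have hz := hs'.1 (a₂ := 0) (e.trans (by simp))
    have := hU.isLocalization_basicOpen g
    have hl : ∀ i, ∃ l : ℕ, g ^ l * c i = 0 := fun i => by
      have hzi := congrFun hz i
      simp only [Pi.zero_apply] at hzi
      rw [(hu.pow K).mul_left_eq_zero] at hzi
      obtain ⟨⟨_, l, rfl⟩, hl⟩ := (IsLocalization.map_eq_zero_iff (Submonoid.powers g)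
        Γ(X, X.basicOpen g) (c i)).1 hzi
      exact ⟨l, hl⟩
    choose l hl using hl
    refine ⟨∑ i, l i, fun i => ?_⟩
    rw [← Nat.sub_add_cancel (Finset.single_le_sum (fun j _ => Nat.zero_le (l j))
      (Finset.mem_univ i) : l i ≤ ∑ i, l i), pow_add, mul_assoc, hl, mul_zero]
  · obtain ⟨r, hr⟩ := hs'.2 (res M (X.basicOpen_le g) x)
    obtain ⟨L, q, hq⟩ := exists_clear hU g r
    have h0 : res M (X.basicOpen_le g) (g ^ (L + K) • x - ∑ i, q i • g ^ (K - k i) • b i) = 0 := by
      simp only at hr
      rw [← KTheory.LocFree.qres_eq, map_sub, KTheory.LocFree.qres_eq, KTheory.LocFree.qres_eq,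
        res_smul, res_sum, ← hr, map_pow, Finset.smul_sum, sub_eq_zero]
      refine Finset.sum_congr rfl fun i _ => ?_
      rw [res_smul, res_smul, hb, map_pow, hq, smul_smul, smul_smul, smul_smul]
      congr 1
      have e : (resX X (X.basicOpen_le g) g) ^ K = resX X (X.basicOpen_le g) g ^ (K - k i) *
          resX X (X.basicOpen_le g) g ^ k i := by
        rw [← pow_add, Nat.sub_add_cancel
          (Finset.single_le_sum (fun j _ => Nat.zero_le (k j)) (Finset.mem_univ i))]
      rw [pow_add, e]
      ring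
    obtain ⟨j, hj⟩ := exists_pow_smul_eq_zero M hU g _ h0
    rw [smul_sub, sub_eq_zero, smul_smul, ← pow_add, Finset.smul_sum] at hj
    exact ⟨j + (L + K), fun i => g ^ j * q i, by rw [hj]; simp only [mul_smul]⟩

end

/-- Sections of a finite locally free module over an affine open are finite projective. -/
theorem finite_projective_sections (h : FlatMod.IsFinLocFree M) {U : X.Opens}
    (hU : IsAffineOpen U) :
    Module.Finite Γ(X, U) Γ(M, U) ∧ Module.Projective Γ(X, U) Γ(M, U) := by
  have := KTheory.LocFree.isQCoh h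
  choose V n s hxV hs using fun x : U => exists_basis_of_isFinLocFree h x.1
  choose g hxg hg using fun x : U => Groth.QCohMod.exists_basicOpen_mem hU x.2 (hxV x)
  refine finite_projective_of_isBasisAway g ?_ fun x =>
    ⟨n x, exists_isBasisAway_of_basis' hU (g x) ((hs x).res' (hg x))⟩
  rw [← hU.iSup_basicOpen_eq_self_iff]
  refine le_antisymm (iSup_le fun r => X.basicOpen_le _) fun x hx => ?_
  exact Opens.mem_iSup.2 ⟨⟨g ⟨x, hx⟩, ⟨_, rfl⟩⟩, hxg ⟨x, hx⟩⟩

theorem projective_sections (h : FlatMod.IsFinLocFree M) {U : X.Opens} (hU : IsAffineOpen U) :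
    Module.Projective Γ(X, U) Γ(M, U) :=
  (finite_projective_sections h hU).2

theorem finitePresentation_sections (h : FlatMod.IsFinLocFree M) {U : X.Opens} (hU : IsAffineOpen U) :
    Module.FinitePresentation Γ(X, U) Γ(M, U) :=
  have := (finite_projective_sections h hU).1
  have := (finite_projective_sections h hU).2
  Module.finitePresentation_of_projective _ _

section Stalk

variable [M.IsQuasicoherent] {U : X.Opens} (hU : IsAffineOpen U) {x : X} (hx : x ∈ U)

include hU hx

lemma mem_freeLocus_iff : hU.primeIdealOf ⟨x, hx⟩ ∈ Module.freeLocus Γ(X, U) Γ(M, U) ↔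
    Module.Free (X.presheaf.stalk x) (M.presheaf.stalk x) := by
  let _ := Groth.QCohMod.stalkModule M x hx
  let _ : Algebra Γ(X, U) (X.presheaf.stalk x) :=
    TopCat.Presheaf.algebra_section_stalk X.presheaf ⟨x, hx⟩
  have : IsLocalization.AtPrime (X.presheaf.stalk x) (hU.primeIdealOf ⟨x, hx⟩).asIdeal :=
    hU.isLocalization_stalk ⟨x, hx⟩
  have := Groth.QCohMod.isLocalizedModule_germ M hU x hx
  have : IsScalarTower Γ(X, U) (X.presheaf.stalk x) (M.presheaf.stalk x) :=
    ⟨fun r s m => mul_smul (X.presheaf.germ U x hx r) s m⟩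
  exact Module.mem_freeLocus_of_isLocalization _ (X.presheaf.stalk x) (M.presheaf.stalk x)
    (Groth.QCohMod.germₗ M x hx)

/-- A finitely presented module with free stalk at `x` has a basis near `x`. -/
theorem exists_basis_of_free_stalk [Module.FinitePresentation Γ(X, U) Γ(M, U)]
    [Module.Free (X.presheaf.stalk x) (M.presheaf.stalk x)] :
    ∃ (g : Γ(X, U)) (n : ℕ) (m : Fin n → Γ(M, U)), x ∈ X.basicOpen g ∧
      n = Module.rankAtStalk Γ(M, U) (hU.primeIdealOf ⟨x, hx⟩) ∧
      Basis' M (X.basicOpen g) (fun i => res M (X.basicOpen_le g) (m i)) := by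
  obtain ⟨g, n, m, hg, hm, hn⟩ := exists_isBasisAway_of_free_at (M := Γ(M, U))
    (hU.primeIdealOf ⟨x, hx⟩) ((mem_freeLocus_iff hU hx).2 inferInstance)
  exact ⟨g, n, m, (Groth.QCohMod.mem_basicOpen_iff_notMem_primeIdealOf hU g x hx).2 hg, hn,
    basis'_of_isBasisAway hU g hm⟩

/-- A finitely presented module with flat stalk at `x` has free stalk at `x`. -/
theorem free_stalk_of_flat [Module.Finite Γ(X, U) Γ(M, U)]
    [Module.Flat (X.presheaf.stalk x) (M.presheaf.stalk x)] :
    Module.Free (X.presheaf.stalk x) (M.presheaf.stalk x) := by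
  let _ := Groth.QCohMod.stalkModule M x hx
  let _ : Algebra Γ(X, U) (X.presheaf.stalk x) :=
    TopCat.Presheaf.algebra_section_stalk X.presheaf ⟨x, hx⟩
  have : IsLocalization.AtPrime (X.presheaf.stalk x) (hU.primeIdealOf ⟨x, hx⟩).asIdeal :=
    hU.isLocalization_stalk ⟨x, hx⟩
  have := Groth.QCohMod.isLocalizedModule_germ M hU x hx
  have : IsScalarTower Γ(X, U) (X.presheaf.stalk x) (M.presheaf.stalk x) :=
    ⟨fun r s m => mul_smul (X.presheaf.germ U x hx r) s m⟩
  have : Module.Finite (X.presheaf.stalk x) (M.presheaf.stalk x) :=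
    Module.Finite.of_isLocalizedModule (hU.primeIdealOf ⟨x, hx⟩).asIdeal.primeCompl
      (Groth.QCohMod.germₗ M x hx)
  exact Module.free_of_flat_of_isLocalRing

end Stalk

/-- A quasi-coherent module with finite projective sections on an affine cover is finite locally
free. -/
theorem isFinLocFree_of_affine_cover [M.IsQuasicoherent]
    (h : ∀ x, ∃ U : X.Opens, IsAffineOpen U ∧ x ∈ U ∧
      Module.Finite Γ(X, U) Γ(M, U) ∧ Module.Projective Γ(X, U) Γ(M, U)) :
    FlatMod.IsFinLocFree M := by
  rw [KTheory.LocFree.isFinLocFree_iff]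
  intro x
  obtain ⟨U, hU, hx, hfin, hproj⟩ := h x
  have : Module.FinitePresentation Γ(X, U) Γ(M, U) := Module.finitePresentation_of_projective _ _
  have : Module.Free (X.presheaf.stalk x) (M.presheaf.stalk x) :=
    (mem_freeLocus_iff hU hx).1 (Module.freeLocus_eq_univ (R := Γ(X, U)) (M := Γ(M, U)) ▸ trivial)
  obtain ⟨g, n, m, hg, -, hm⟩ := exists_basis_of_free_stalk (M := M) hU hx
  exact ⟨X.basicOpen g, n, _, hg, hm⟩

/-- Finite locally free modules are the quasi-coherent modules with finite projective sections on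
affine opens. -/
theorem isFinLocFree_iff_affine : FlatMod.IsFinLocFree M ↔ M.IsQuasicoherent ∧
    ∀ U : X.Opens, IsAffineOpen U →
      Module.Finite Γ(X, U) Γ(M, U) ∧ Module.Projective Γ(X, U) Γ(M, U) := by
  refine ⟨fun h => ⟨KTheory.LocFree.isQCoh h, fun U hU => finite_projective_sections h hU⟩,
    fun ⟨_, h⟩ => isFinLocFree_of_affine_cover fun x => ?_⟩
  obtain ⟨U, hU, hx⟩ := Groth.QCohMod.exists_affine_mem x
  exact ⟨U, hU, hx, h U hU⟩

/-- A module with finitely presented sections and flat stalks is finite locally free. -/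
theorem isFinLocFree_of_flat [M.IsQuasicoherent]
    (hfp : ∀ x, ∃ U : X.Opens, IsAffineOpen U ∧ x ∈ U ∧ Module.FinitePresentation Γ(X, U) Γ(M, U))
    (hflat : ∀ x : X, Module.Flat (X.presheaf.stalk x) (M.presheaf.stalk x)) :
    FlatMod.IsFinLocFree M := by
  rw [KTheory.LocFree.isFinLocFree_iff]
  intro x
  obtain ⟨U, hU, hx, hfp⟩ := hfp x
  have := hflat x
  have := free_stalk_of_flat (M := M) hU hx
  obtain ⟨g, n, m, hg, -, hm⟩ := exists_basis_of_free_stalk (M := M) hU hx
  exact ⟨X.basicOpen g, n, _, hg, hm⟩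

end Groth.LocFree
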