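import Groth.Agent.RefRank.HomSec
import Groth.Agent.LocFree.Rank
import Mathlib.LinearAlgebra.FreeModule.Finite.Matrix

/-!
# The sheaf Hom of finite locally free modules
-/

universe u

open CategoryTheory CategoryTheory.Limits AlgebraicGeometry TopologicalSpace Opposite

namespace Groth.LocFree

open Groth.QCohMod Groth.RefRank

variable {X : Scheme.{u}} {F G : X.Modules}

/-- The sheaf Hom out of a quasi-coherent module with finitely presented sections on affine opens
is quasi-coherent. -/
theorem isQCoh_homSh [F.IsQuasicoherent] [G.IsQuasicoherent]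
    (hF : ∀ U : X.Opens, IsAffineOpen U → Module.FinitePresentation Γ(X, U) Γ(F, U)) :
    (RefHull.homSh F G).IsQuasicoherent := by
  refine isQCoh_of_forall_affine _ (fun U hU a s => ?_) (fun U hU a t ht => ?_)
  · have := hF U hU
    let le := X.basicOpen_le a
    let _ : Module Γ(X, U) Γ(G, X.basicOpen a) := Module.compHom _ (resFun X le)
    let rG : Γ(G, U) →ₗ[Γ(X, U)] Γ(G, X.basicOpen a) :=
      { toFun := res G le, map_add' := map_add _, map_smul' := fun r m => res_smul G le r m }
    have hloc : IsLocalizedModule (Submonoid.powers a) rG := by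
      refine ⟨fun ⟨_, k, hk⟩ => ?_, fun y => ?_, fun {m₁ m₂} h => ?_⟩
      · rw [Module.End.isUnit_iff]
        subst hk
        have hu : IsUnit (resFun X le (a ^ k)) := by
          rw [map_pow]; exact (RingedSpace.isUnit_res_basicOpen _ a).pow k
        exact hu.smul_bijective
      · obtain ⟨k, m, hm⟩ := exists_pow_smul_eq_res G hU a y
        refine ⟨⟨m, ⟨a ^ k, k, rfl⟩⟩, ?_⟩
        change resFun X le (a ^ k) • y = res G le m
        rw [hm, map_pow]
      · obtain ⟨k, hk⟩ := exists_pow_smul_eq_zero G hU a (m₁ - m₂)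
          (by rw [map_sub]; exact sub_eq_zero.mpr h)
        exact ⟨⟨a ^ k, k, rfl⟩, sub_eq_zero.mp ((smul_sub _ _ _).symm.trans hk)⟩
    let ψ : Γ(F, U) →ₗ[Γ(X, U)] Γ(G, X.basicOpen a) :=
      { toFun := fun m => secToLin s (res F le m)
        map_add' := fun m m' => by rw [map_add, map_add]
        map_smul' := fun r m => by
          rw [res_smul, map_smul]; rfl }
    obtain ⟨h, ⟨_, k, rfl⟩, hh⟩ :=
      Module.FinitePresentation.exists_lift_of_isLocalizedModule (Submonoid.powers a) rG ψ
    obtain ⟨t, ht⟩ := secToLin_surjective hU h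
    refine ⟨k, t, hom_ext_sec fun ⟨y, hy⟩ => stalkHom_ext hU (le hy) fun m => ?_⟩
    have e := congrArg (germ G y hy) (LinearMap.congr_fun hh m)
    change germ G y hy (res G le (h m)) =
      germ G y hy (resFun X le (a ^ k) • secToLin s (res F le m)) at e
    rw [germ_res, ← ht, germ_secToLin, germ_smul, germ_secToLin, germ_res, map_pow] at e
    rw [smul_val]
    exact e
  · have := hF U hU
    have : Module.Finite Γ(X, U) Γ(F, U) := inferInstance
    obtain ⟨T, hT⟩ := (inferInstance : Module.Finite Γ(X, U) Γ(F, U)).fg_top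
    have hk : ∀ m ∈ T, ∃ k : ℕ, a ^ k • secToLin t m = 0 := fun m _ => by
      refine exists_pow_smul_eq_zero G hU a _ ?_
      rw [← secToLin_res, ht]
      exact mod_section_ext G fun x hx => by rw [germ_secToLin, map_zero]; rfl
    choose! k hk using hk
    refine ⟨T.sup k, secToLin_injective hU ?_⟩
    rw [secToLin_smul, show secToLin (0 : Γ(RefHull.homSh F G, U)) = 0 from (secLinEquiv hU).map_zero]
    refine LinearMap.ext_on hT fun m hm => ?_
    have : a ^ T.sup k = a ^ (T.sup k - k m) * a ^ k m := by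
      rw [← pow_add, Nat.sub_add_cancel (Finset.le_sup hm)]
    rw [LinearMap.smul_apply, this, mul_smul, hk m hm, smul_zero]
    rfl

/-- Linear maps between finite projective modules form a finite projective module. -/
theorem finite_projective_hom (R P Q : Type u) [CommRing R] [AddCommGroup P] [Module R P]
    [AddCommGroup Q] [Module R Q] [Module.Finite R P] [Module.Projective R P] [Module.Finite R Q]
    [Module.Projective R Q] :
    Module.Finite R (P →ₗ[R] Q) ∧ Module.Projective R (P →ₗ[R] Q) := by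
  classical
  obtain ⟨n, π, hπ⟩ := Module.Finite.exists_fin' R P
  obtain ⟨s, hs⟩ := Module.projective_lifting_property π LinearMap.id hπ
  let e : (Fin n → Q) ≃ₗ[R] ((Fin n → R) →ₗ[R] Q) := (Pi.basisFun R (Fin n)).constr R
  have hp : Module.Projective R (Π₀ _ : Fin n, Q) := inferInstance
  have hp' : Module.Projective R (Fin n → Q) := Module.Projective.of_equiv DFinsupp.linearEquivFunOnFintype
  have : Module.Projective R ((Fin n → R) →ₗ[R] Q) := Module.Projective.of_equiv e
  have : Module.Finite R ((Fin n → R) →ₗ[R] Q) := Module.Finite.equiv e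
  let i : (P →ₗ[R] Q) →ₗ[R] ((Fin n → R) →ₗ[R] Q) := LinearMap.lcomp R Q π
  let p : ((Fin n → R) →ₗ[R] Q) →ₗ[R] (P →ₗ[R] Q) := LinearMap.lcomp R Q s
  have hpi : p.comp i = LinearMap.id := by
    ext φ x
    exact congrArg φ (LinearMap.congr_fun hs x)
  exact ⟨Module.Finite.of_surjective p fun φ => ⟨i φ, LinearMap.congr_fun hpi φ⟩,
    Module.Projective.of_split i p hpi⟩

theorem isQCoh_homSh_of_isFinLocFree [G.IsQuasicoherent] (hF : FlatMod.IsFinLocFree F) :
    (RefHull.homSh F G).IsQuasicoherent :=
  have := KTheory.LocFree.isQCoh hF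
  isQCoh_homSh fun _ hU => finitePresentation_sections hF hU

/-- The sheaf Hom of finite locally free modules is finite locally free. -/
theorem isFinLocFree_homSh (hF : FlatMod.IsFinLocFree F) (hG : FlatMod.IsFinLocFree G) :
    FlatMod.IsFinLocFree (RefHull.homSh F G) := by
  have := KTheory.LocFree.isQCoh hF
  have := KTheory.LocFree.isQCoh hG
  have := isQCoh_homSh_of_isFinLocFree (G := G) hF
  refine isFinLocFree_of_affine_cover fun x => ?_
  obtain ⟨U, hU, hx⟩ := exists_affine_mem x
  obtain ⟨_, _⟩ := finite_projective_sections hF hU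
  obtain ⟨_, _⟩ := finite_projective_sections hG hU
  obtain ⟨_, _⟩ := finite_projective_hom Γ(X, U) Γ(F, U) Γ(G, U)
  exact ⟨U, hU, hx, Module.Finite.equiv (secLinEquiv hU).symm,
    Module.Projective.of_equiv (secLinEquiv (F := F) (G := G) hU).symm⟩

theorem isFinLocFreeOfRank_homSh {a b' : ℕ} (hF : FlatMod.IsFinLocFreeOfRank a F)
    (hG : FlatMod.IsFinLocFreeOfRank b' G) :
    FlatMod.IsFinLocFreeOfRank (a * b') (RefHull.homSh F G) := by
  have := KTheory.LocFree.isQCoh (isFinLocFree_of_rank hF)
  have := KTheory.LocFree.isQCoh (isFinLocFree_of_rank hG)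
  have hq := isQCoh_homSh_of_isFinLocFree (G := G) (isFinLocFree_of_rank hF)
  rw [isFinLocFreeOfRank_iff]
  intro x
  obtain ⟨U, s, hxU, hs⟩ := isFinLocFreeOfRank_iff.1 hF x
  obtain ⟨V, t, hxV, ht⟩ := isFinLocFreeOfRank_iff.1 hG x
  obtain ⟨_, ⟨W, hW, rfl⟩, hxW, hWUV⟩ := X.isBasis_affineOpens.exists_subset_of_mem_open
    (show x ∈ ((U ⊓ V : X.Opens) : Set X) from ⟨hxU, hxV⟩) (U ⊓ V).2
  have hW' : W ≤ U ⊓ V := hWUV
  let bF := basisOfBasis' hs (hW'.trans inf_le_left)
  let bG := basisOfBasis' ht (hW'.trans inf_le_right)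
  let b := (((bF.linearMap bG).reindex (Equiv.prodComm _ _)).reindex finProdFinEquiv).map
    (secLinEquiv (F := F) (G := G) hW).symm
  refine ⟨W, b, hxW, KTheory.LocFree.basis'_of_affine hW b ?_⟩
  have e : (fun r : Fin (a * b') → Γ(X, W) => ∑ j, r j • b j) = b.equivFun.symm :=
    funext fun r => (b.equivFun_symm_apply r).symm
  rw [e]
  exact b.equivFun.symm.bijective

end Groth.LocFree
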