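import Groth.Agent.LocFree.Rank
import Groth.Agent.QCohMod.Tensor
import Mathlib.RingTheory.TensorProduct.Free
import Mathlib.LinearAlgebra.Dimension.Constructions

/-!
# Tensor products of finite locally free modules
-/

universe u

open CategoryTheory AlgebraicGeometry Opposite TopologicalSpace TensorProduct

namespace Groth.LocFree

open Groth.PicAux

variable {X : Scheme.{u}} {M N : X.Modules}

/-- Sections of a tensor product of quasi-coherent modules over an affine open. -/
noncomputable def tensorSecEquiv [M.IsQuasicoherent] [N.IsQuasicoherent] {U : X.Opens}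
    (hU : IsAffineOpen U) :
    Γ(M, U) ⊗[Γ(X, U)] Γ(N, U) ≃ₗ[Γ(X, U)] Γ(CohB1.tensorMod M N, U) :=
  LinearEquiv.ofBijective
    ({ toFun := ptenUnit M N U
       map_add' := map_add _
       map_smul' := Groth.PicAux.ptenUnit_smul M N } : PTen M N U →ₗ[Γ(X, U)] _)
    (Groth.QCohMod.ptenUnit_bijective hU)

@[simp]
theorem tensorSecEquiv_tmul [M.IsQuasicoherent] [N.IsQuasicoherent] {U : X.Opens}
    (hU : IsAffineOpen U) (a : Γ(M, U)) (b : Γ(N, U)) :
    tensorSecEquiv hU (a ⊗ₜ b) = tmulSec a b := rfl

/-- The tensor product of finite locally free modules is finite locally free. -/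
theorem isFinLocFree_tensorMod (hM : FlatMod.IsFinLocFree M) (hN : FlatMod.IsFinLocFree N) :
    FlatMod.IsFinLocFree (CohB1.tensorMod M N) := by
  have := KTheory.LocFree.isQCoh hM
  have := KTheory.LocFree.isQCoh hN
  have := Groth.QCohMod.isQCoh_tensorMod (M := M) (N := N)
  refine isFinLocFree_of_affine_cover fun x => ?_
  obtain ⟨U, hU, hx⟩ := Groth.QCohMod.exists_affine_mem x
  obtain ⟨_, _⟩ := finite_projective_sections hM hU
  obtain ⟨_, _⟩ := finite_projective_sections hN hU
  exact ⟨U, hU, hx, Module.Finite.equiv (tensorSecEquiv hU),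
    Module.Projective.of_equiv (tensorSecEquiv hU)⟩

theorem isFinLocFreeOfRank_tensorMod {a b : ℕ} (hM : FlatMod.IsFinLocFreeOfRank a M)
    (hN : FlatMod.IsFinLocFreeOfRank b N) :
    FlatMod.IsFinLocFreeOfRank (a * b) (CohB1.tensorMod M N) := by
  refine isFinLocFreeOfRank_iff_finrank.2
    ⟨isFinLocFree_tensorMod (isFinLocFree_of_rank hM) (isFinLocFree_of_rank hN), fun x => ?_⟩
  have := KTheory.LocFree.free_stalk (isFinLocFree_of_rank hM) x
  have := KTheory.LocFree.free_stalk (isFinLocFree_of_rank hN) x
  rw [← (Groth.QCohMod.stalkTensorEquiv M N x).finrank_eq, Module.finrank_tensorProduct,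
    finrank_stalk hM x, finrank_stalk hN x]

end Groth.LocFree
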