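import Groth.Agent.LocFree.ExtPre
import Groth.Agent.LocFree.AffineHom
import Groth.Agent.LocFree.Rank
import Mathlib.LinearAlgebra.ExteriorPower.Basis
import Mathlib.Data.Set.PowersetCard

/-!
# Exterior powers of quasi-coherent and finite locally free modules
-/

universe u

open CategoryTheory AlgebraicGeometry Opposite TopologicalSpace

namespace Groth.LocFree

open Groth.PicAux

variable {X : Scheme.{u}} {i : ℕ} {E L : X.Modules}

/-- Existence of exterior powers of quasi-coherent modules. -/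
theorem exists_isExtPow (i : ℕ) (E : X.Modules) [E.IsQuasicoherent] :
    ∃ L : X.Modules, L.IsQuasicoherent ∧ ExtPow.IsExtPow i E L :=
  ⟨extPow i E, isQCoh_extPow i E, isExtPow_extPow i E⟩

section

variable [E.IsQuasicoherent]

/-- An exterior power is canonically isomorphic to `extPow`, compatibly with wedges. -/
theorem exists_iso_extPow
    (φ : ∀ U : X.affineOpens, Γ(L, U.1) ≃ₗ[Γ(X, U.1)] ESec i E U.1)
    (hφ : ∀ (U V : X.affineOpens) (h : V.1 ≤ U.1) (e : Fin i → Γ(E, U.1)),
      res L h ((φ U).symm (ewedge i E e)) = (φ V).symm (ewedge i E fun j => res E h (e j))) :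
    ∃ ε : extPow i E ≅ L, ∀ (U : X.affineOpens) (e : Fin i → Γ(E, U.1)),
      ε.hom.app U.1 (wedge i E e) = (φ U).symm (ewedge i E e) := by
  let B := fun (U : X.Opens) (hU : IsAffineOpen U) =>
    LinearEquiv.ofBijective (extUnit i E U) (extUnit_bijective i E hU)
  have hres : ∀ (U V : X.affineOpens) (h : V.1 ≤ U.1) (x : ESec i E U.1),
      res L h ((φ U).symm x) = (φ V).symm (extRes i E h x) := by
    intro U V h x
    induction x using esec_induction with
    | wedge e => rw [extRes_ewedge]; exact hφ U V h e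
    | zero => simp
    | add a b ha hb => rw [map_add, res_add, ha, hb, map_add, map_add]
    | smul r a ha => rw [map_smul, res_smul, ha, map_smulₛₗ, map_smul]
  obtain ⟨ψ, hψ⟩ := exists_hom_of_affine (L := extPow i E) (M := L)
    (fun U hU => (φ ⟨U, hU⟩).symm.toLinearMap ∘ₗ (B U hU).symm.toLinearMap) (by
    intro U V hU hV h x
    obtain ⟨a, rfl⟩ := (B U hU).surjective x
    have e : res (extPow i E) h (B U hU a) = B V hV (extRes i E h a) := (extUnit_res i E h a).symm
    simp only [LinearMap.coe_comp, LinearEquiv.coe_coe, Function.comp_apply]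
    rw [e, LinearEquiv.symm_apply_apply, LinearEquiv.symm_apply_apply]
    exact hres ⟨U, hU⟩ ⟨V, hV⟩ h a)
  have hψ' : IsIso ψ := Groth.QCohMod.isIso_of_affine_bijective ψ fun U hU => by
    have : ⇑(ψ.app U) = ⇑((φ ⟨U, hU⟩).symm) ∘ ⇑((B U hU).symm) := funext fun x => hψ U hU x
    rw [this]
    exact (LinearEquiv.bijective _).comp (LinearEquiv.bijective _)
  refine ⟨asIso ψ, fun U e => ?_⟩
  rw [asIso_hom, hψ U.1 U.2]
  exact congrArg (φ U).symm ((B U.1 U.2).symm_apply_apply (ewedge i E e))

/-- An `i`-th exterior power is isomorphic to `extPow`. -/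
theorem nonempty_iso_extPow (h : ExtPow.IsExtPow i E L) : Nonempty (extPow i E ≅ L) := by
  obtain ⟨φ, hφ⟩ := h
  obtain ⟨ε, -⟩ := exists_iso_extPow (L := L) φ hφ
  exact ⟨ε⟩

/-- Exterior powers are unique up to isomorphism. -/
theorem nonempty_iso_of_isExtPow {L' : X.Modules} (h : ExtPow.IsExtPow i E L)
    (h' : ExtPow.IsExtPow i E L') : Nonempty (L ≅ L') := by
  obtain ⟨ε⟩ := nonempty_iso_extPow h
  obtain ⟨ε'⟩ := nonempty_iso_extPow h'
  exact ⟨ε.symm ≪≫ ε'⟩

/-- An exterior power of a quasi-coherent module is quasi-coherent. -/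
theorem isQCoh_of_isExtPow (h : ExtPow.IsExtPow i E L) : L.IsQuasicoherent :=
  (Groth.QCohMod.isQCoh_iff_of_iso (nonempty_iso_extPow h).some).1 (isQCoh_extPow i E)

end

/-- Exterior powers through sections `Γ(-, U)`. -/
theorem isExtPow_def : ExtPow.IsExtPow i E L ↔
    ∃ φ : ∀ U : X.affineOpens, Γ(L, U.1) ≃ₗ[Γ(X, U.1)] ESec i E U.1,
      ∀ (U V : X.affineOpens) (h : V.1 ≤ U.1) (e : Fin i → Γ(E, U.1)),
        res L h ((φ U).symm (ewedge i E e)) = (φ V).symm (ewedge i E fun j => res E h (e j)) :=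
  Iff.rfl

/-- Exterior powers may be replaced by isomorphic modules. -/
theorem isExtPow_of_iso {L' : X.Modules} (ε : L ≅ L') (h : ExtPow.IsExtPow i E L) :
    ExtPow.IsExtPow i E L' := by
  obtain ⟨φ, hφ⟩ := isExtPow_def.1 h
  have hb : ∀ U : X.affineOpens, Function.Bijective (Groth.QCohMod.appₗ ε.inv U.1) := fun U =>
    ConcreteCategory.bijective_of_isIso (ε.inv.app U.1)
  let ψ : ∀ U : X.affineOpens, Γ(L', U.1) ≃ₗ[Γ(X, U.1)] ESec i E U.1 := fun U =>
    (LinearEquiv.ofBijective (Groth.QCohMod.appₗ ε.inv U.1) (hb U)).trans (φ U)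
  have key : ∀ (W : X.affineOpens) (x), (ψ W).symm x = ε.hom.app W.1 ((φ W).symm x) := fun W x => by
    rw [LinearEquiv.symm_apply_eq]
    change x = φ W (ε.inv.app W.1 (ε.hom.app W.1 ((φ W).symm x)))
    rw [show ε.inv.app W.1 (ε.hom.app W.1 ((φ W).symm x)) = (φ W).symm x from
      congr(($(ε.hom_inv_id)).app W.1 ((φ W).symm x)), LinearEquiv.apply_symm_apply]
  refine isExtPow_def.2 ⟨ψ, fun U V h e => ?_⟩
  rw [key, key, ← app_res ε.hom h, hφ U V h e]

/-- Exterior powers of a quasi-coherent module are exactly the modules isomorphic to `extPow`. -/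
theorem isExtPow_iff [E.IsQuasicoherent] :
    ExtPow.IsExtPow i E L ↔ Nonempty (extPow i E ≅ L) :=
  ⟨nonempty_iso_extPow, fun ⟨ε⟩ => isExtPow_of_iso ε (isExtPow_extPow i E)⟩

/-- The wedges of a basis form a basis of the exterior power. -/
theorem exists_basis'_extPow [E.IsQuasicoherent] {U : X.Opens} (hU : IsAffineOpen U) {n : ℕ}
    {s : Fin n → Γ(E, U)} (hs : Basis' E U s) (i : ℕ) :
    ∃ t : Fin (n.choose i) → Γ(extPow i E, U), Basis' (extPow i E) U t := by
  classical
  have hq := isQCoh_extPow i E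
  let b := (basisOfBasis' hs le_rfl).exteriorPower i
  have hc : Fintype.card (Set.powersetCard (Fin n) i) = n.choose i := by
    rw [← Nat.card_eq_fintype_card, Set.powersetCard.card, Nat.card_eq_fintype_card, Fintype.card_fin]
  let b' := (b.reindex (Fintype.equivFinOfCardEq hc)).map
    (LinearEquiv.ofBijective (extUnit i E U) (extUnit_bijective i E hU))
  refine ⟨b', KTheory.LocFree.basis'_of_affine hU _ ?_⟩
  have e : (fun r : Fin (n.choose i) → Γ(X, U) => ∑ j, r j • b' j) = b'.equivFun.symm :=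
    funext fun r => (b'.equivFun_symm_apply r).symm
  rw [e]
  exact b'.equivFun.symm.bijective

theorem isFinLocFreeOfRank_extPow {r : ℕ} (h : FlatMod.IsFinLocFreeOfRank r E) (i : ℕ) :
    FlatMod.IsFinLocFreeOfRank (r.choose i) (extPow i E) := by
  have := KTheory.LocFree.isQCoh (isFinLocFree_of_rank h)
  rw [isFinLocFreeOfRank_iff]
  intro x
  obtain ⟨U, s, hU, hx, hs⟩ := exists_affine_basis_ofRank h x
  obtain ⟨t, ht⟩ := exists_basis'_extPow hU hs i
  exact ⟨U, t, hx, ht⟩

theorem isFinLocFree_extPow (h : FlatMod.IsFinLocFree E) (i : ℕ) :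
    FlatMod.IsFinLocFree (extPow i E) := by
  have := KTheory.LocFree.isQCoh h
  rw [KTheory.LocFree.isFinLocFree_iff]
  intro x
  obtain ⟨U, n, s, hU, hx, hs⟩ := exists_affine_basis h x
  obtain ⟨t, ht⟩ := exists_basis'_extPow hU hs i
  exact ⟨U, _, t, hx, ht⟩

/-- An exterior power of a finite locally free module is finite locally free. -/
theorem isFinLocFree_of_isExtPow (h : FlatMod.IsFinLocFree E) (hL : ExtPow.IsExtPow i E L) :
    FlatMod.IsFinLocFree L :=
  have := KTheory.LocFree.isQCoh h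
  KTheory.LocFree.isFinLocFree_of_iso (nonempty_iso_extPow hL).some (isFinLocFree_extPow h i)

/-- The rank of an exterior power. -/
theorem isFinLocFreeOfRank_of_isExtPow {r : ℕ} (h : FlatMod.IsFinLocFreeOfRank r E)
    (hL : ExtPow.IsExtPow i E L) : FlatMod.IsFinLocFreeOfRank (r.choose i) L :=
  have := KTheory.LocFree.isQCoh (isFinLocFree_of_rank h)
  isFinLocFreeOfRank_of_iso (nonempty_iso_extPow hL).some (isFinLocFreeOfRank_extPow h i)

/-- The determinant of a locally free module is invertible. -/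
theorem isInvertible_det {r : ℕ} (h : FlatMod.IsFinLocFreeOfRank r E)
    (hL : ExtPow.IsExtPow r E L) : PicF.IsInvertible L := by
  have := isFinLocFreeOfRank_of_isExtPow h hL
  rw [Nat.choose_self] at this
  exact isInvertible_iff_ofRank_one.2 this

end Groth.LocFree
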