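import Groth.Agent.LocFree.ExtPre

/-!
# Morphisms out of exterior powers
-/

universe u

open CategoryTheory AlgebraicGeometry Opposite TopologicalSpace

namespace Groth.LocFree

open Groth.PicAux

variable {X : Scheme.{u}} (i : ℕ) (E : X.Modules) {L : X.Modules}
  (α : ∀ U : X.Opens, Γ(E, U) [⋀^Fin i]→ₗ[Γ(X, U)] Γ(L, U))
  (hα : ∀ (U V : X.Opens) (h : V ≤ U) (e : Fin i → Γ(E, U)),
    res L h (α U e) = α V fun j => res E h (e j))

/-- The linear map of an alternating map on sections. -/
noncomputable def altLin (U : X.Opens) : ESec i E U →ₗ[Γ(X, U)] Γ(L, U) :=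
  exteriorPower.alternatingMapLinearEquiv (α U)

include hα in
theorem altLin_res {U V : X.Opens} (h : V ≤ U) (x : ESec i E U) :
    altLin i E α V (extRes i E h x) = res L h (altLin i E α U x) := by
  induction x using esec_induction with
  | wedge e =>
    rw [extRes_ewedge]
    simp only [altLin, exteriorPower.alternatingMapLinearEquiv_apply_ιMulti]
    exact (hα U V h e).symm
  | zero => simp
  | add a b ha hb => rw [map_add, map_add, ha, hb, map_add, res_add]
  | smul r a ha => rw [map_smulₛₗ, map_smul, ha, map_smul, res_smul]

/-- The morphism of presheaves of a family of alternating maps. -/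
noncomputable def extLiftPre : extPre i E ⟶ L.val where
  app U := ModuleCat.ofHom (R := X.ringCatSheaf.obj.obj U) (X := ESec i E U.unop)
    (Y := L.val.obj U)
    ({ toFun := fun x => (altLin i E α U.unop x : L.val.obj U)
       map_add' := fun x y => map_add (altLin i E α U.unop) x y
       map_smul' := fun r x => (altLin i E α U.unop).map_smul (r : Γ(X, U.unop)) x } :
      ESec i E U.unop →ₗ[X.ringCatSheaf.obj.obj U] L.val.obj U)
  naturality {U V} j := by
    ext x
    exact altLin_res i E α hα j.unop.le x

/-- The morphism out of an exterior power given by alternating maps on all opens. -/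
noncomputable def extLift : extPow i E ⟶ L :=
  (exists_hom_sheafify (extPre i E) (extLiftPre i E α hα)).choose

theorem extLift_wedge (U : X.Opens) (e : Fin i → Γ(E, U)) :
    (extLift i E α hα).app U (wedge i E e) = α U e :=
  ((exists_hom_sheafify (extPre i E) (extLiftPre i E α hα)).choose_spec U (ewedge i E e)).trans
    (exteriorPower.alternatingMapLinearEquiv_apply_ιMulti (α U) e)

theorem extPow_hom_ext {φ ψ : extPow i E ⟶ L}
    (h : ∀ (U : X.Opens) (e : Fin i → Γ(E, U)), φ.app U (wedge i E e) = ψ.app U (wedge i E e)) :
    φ = ψ := by
  refine sheafify_hom_ext (extPre i E) fun U p => ?_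
  change φ.app U (extUnit i E U p) = ψ.app U (extUnit i E U p)
  induction p using esec_induction with
  | wedge e => exact h U e
  | zero => simp
  | add a b ha hb => simp [ha, hb]
  | smul r a ha =>
    rw [map_smul]
    exact ((φ.app_smul r (extUnit i E U a)).trans (congrArg _ ha)).trans
      (ψ.app_smul r (extUnit i E U a)).symm

end Groth.LocFree
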