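import Groth.Agent.LocFree.ExtPow
import Groth.Agent.LocFree.ExtLift
import Groth.Agent.QCohMod.PullbackSections
import Groth.Agent.PicAux.PushPull

/-!
# Exterior powers commute with pullback
-/

universe u

open CategoryTheory AlgebraicGeometry Opposite TopologicalSpace TensorProduct

namespace Groth.LocFree

open Groth.PicAux

variable {X Y : Scheme.{u}} (f : Y ⟶ X) (i : ℕ) (E : X.Modules)

/-- A map compatible with two base changes is bijective. -/
theorem bijective_of_isBaseChange {R S P A B : Type u} [CommRing R] [CommRing S] [Algebra R S]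
    [AddCommGroup P] [Module R P] [AddCommGroup A] [Module R A] [Module S A] [IsScalarTower R S A]
    [AddCommGroup B] [Module R B] [Module S B] [IsScalarTower R S B] {a : P →ₗ[R] A}
    {b : P →ₗ[R] B} (ha : IsBaseChange S a) (hb : IsBaseChange S b) (ψ : A →ₗ[S] B)
    (h : (ψ.restrictScalars R) ∘ₗ a = b) : Function.Bijective ψ := by
  have : ψ = (ha.equiv.symm.trans hb.equiv).toLinearMap := ha.algHom_ext _ _ fun x => by
    simp only [LinearEquiv.coe_coe, LinearEquiv.trans_apply, IsBaseChange.equiv_symm_apply,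
      IsBaseChange.equiv_tmul, one_smul]
    exact LinearMap.congr_fun h x
  rw [this]
  exact (ha.equiv.symm.trans hb.equiv).bijective

/-- Pullback of sections as a linear map. -/
noncomputable def pullSecₗ (M : X.Modules) {U : X.Opens} {V : Y.Opens} (e : V ≤ f ⁻¹ᵁ U) :
    letI : Module Γ(X, U) Γ((Scheme.Modules.pullback f).obj M, V) :=
      Module.compHom _ (f.appLE U V e).hom
    Γ(M, U) →ₗ[Γ(X, U)] Γ((Scheme.Modules.pullback f).obj M, V) :=
  letI : Module Γ(X, U) Γ((Scheme.Modules.pullback f).obj M, V) :=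
    Module.compHom _ (f.appLE U V e).hom
  { toFun := fun m => res _ e (pullSec f M m)
    map_add' := fun m m' => by rw [← res_add]; exact congrArg _ (map_add _ m m')
    map_smul' := Groth.QCohMod.res_pullSec_smul f M e }

/-- Sections of a pullback are base changes over affines. -/
theorem isBaseChange_pullSecₗ (M : X.Modules) [M.IsQuasicoherent] {U : X.Opens} {V : Y.Opens}
    (e : V ≤ f ⁻¹ᵁ U) (hU : IsAffineOpen U) (hV : IsAffineOpen V) :
    letI := Groth.QCohMod.sectionsAlg f e
    letI : Module Γ(X, U) Γ((Scheme.Modules.pullback f).obj M, V) :=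
      Module.compHom _ (f.appLE U V e).hom
    haveI : IsScalarTower Γ(X, U) Γ(Y, V) Γ((Scheme.Modules.pullback f).obj M, V) :=
      IsScalarTower.of_algebraMap_smul fun _ _ => rfl
    IsBaseChange Γ(Y, V) (pullSecₗ f M e) := by
  let _ := Groth.QCohMod.sectionsAlg f e
  let _ : Module Γ(X, U) Γ((Scheme.Modules.pullback f).obj M, V) :=
    Module.compHom _ (f.appLE U V e).hom
  have : IsScalarTower Γ(X, U) Γ(Y, V) Γ((Scheme.Modules.pullback f).obj M, V) :=
    IsScalarTower.of_algebraMap_smul fun _ _ => rfl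
  exact IsBaseChange.of_equiv (Groth.QCohMod.pullSecEquiv f M e hU hV) fun m => one_smul _ _

/-- `e ↦ f^*e₁ ∧ ⋯ ∧ f^*eᵢ`. -/
noncomputable def pullWedge (U : X.Opens) :
    Γ(E, U) [⋀^Fin i]→ₗ[Γ(X, U)] Γ((Scheme.Modules.pushforward f).obj
      (extPow i ((Scheme.Modules.pullback f).obj E)), U) where
  toFun e := pushSec f (extPow i ((Scheme.Modules.pullback f).obj E))
    (wedge i ((Scheme.Modules.pullback f).obj E) fun j => pullSec f E (e j))
  map_update_add' e j x y := by
    simp only [← Function.comp_def (pullSec f E), Function.comp_update, wedge, ewedge]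
    rw [show pullSec f E (x + y) = pullSec f E x + pullSec f E y from map_add _ x y,
      AlternatingMap.map_update_add, map_add]
    rfl
  map_update_smul' e j r x := by
    simp only [← Function.comp_def (pullSec f E), Function.comp_update, wedge, ewedge]
    rw [pullSec_smul, AlternatingMap.map_update_smul, map_smul]
    rfl
  map_eq_zero_of_eq' e a b h hab := by
    simp only [wedge, ewedge]
    rw [(exteriorPower.ιMulti _ i).map_eq_zero_of_eq _ (by simp [h]) hab, map_zero]
    rfl

theorem res_pullWedge {U V : X.Opens} (h : V ≤ U) (e : Fin i → Γ(E, U)) :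
    res _ h (pullWedge f i E U e) = pullWedge f i E V fun j => res E h (e j) := by
  change res (extPow i ((Scheme.Modules.pullback f).obj E)) (f.preimage_mono h)
    (wedge i ((Scheme.Modules.pullback f).obj E) fun k => pullSec f E (e k)) =
      wedge i ((Scheme.Modules.pullback f).obj E) fun k => pullSec f E (res E h (e k))
  rw [res_wedge]
  exact congrArg _ (funext fun k => res_pullSec f E h (e k))

/-- The comparison `f^* ⋀ⁱ E → ⋀ⁱ f^*E`. -/
noncomputable def pullExtHom : (Scheme.Modules.pullback f).obj (extPow i E) ⟶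
    extPow i ((Scheme.Modules.pullback f).obj E) :=
  ((Scheme.Modules.pullbackPushforwardAdjunction f).homEquiv _ _).symm
    (extLift i E (pullWedge f i E) fun _ _ h e => res_pullWedge f i E h e)

theorem pullExtHom_pullSec {U : X.Opens} (e : Fin i → Γ(E, U)) :
    (pullExtHom f i E).app (f ⁻¹ᵁ U) (pullSec f (extPow i E) (wedge i E e)) =
      wedge i ((Scheme.Modules.pullback f).obj E) fun j => pullSec f E (e j) := by
  let adj := Scheme.Modules.pullbackPushforwardAdjunction f
  have h1 : adj.unit.app (extPow i E) ≫ (Scheme.Modules.pushforward f).map (pullExtHom f i E) =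
      extLift i E (pullWedge f i E) (fun _ _ h e => res_pullWedge f i E h e) :=
    (adj.homEquiv_unit _ _ _).symm.trans (Equiv.apply_symm_apply _ _)
  have h2 := congr(($h1).app U (wedge i E e))
  exact h2.trans (extLift_wedge i E _ _ U e)

variable [E.IsQuasicoherent]

omit [E.IsQuasicoherent] in
theorem pullExtHom_res_pullSec {U : X.Opens} {V : Y.Opens} (e : V ≤ f ⁻¹ᵁ U)
    (w : Fin i → Γ(E, U)) :
    (pullExtHom f i E).app V (res _ e (pullSec f (extPow i E) (wedge i E w))) =
      wedge i ((Scheme.Modules.pullback f).obj E) fun j => res _ e (pullSec f E (w j)) := by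
  refine (app_res (pullExtHom f i E) e _).trans ?_
  refine (congrArg (res _ e) (pullExtHom_pullSec f i E w)).trans ?_
  exact res_wedge i ((Scheme.Modules.pullback f).obj E) e fun j => pullSec f E (w j)

/-- The comparison `f^* ⋀ⁱ E → ⋀ⁱ f^*E` is bijective over affines over affines. -/
theorem pullExtHom_bijective {U : X.Opens} (hU : IsAffineOpen U) {V : Y.Opens}
    (hV : IsAffineOpen V) (e : V ≤ f ⁻¹ᵁ U) :
    Function.Bijective ((pullExtHom f i E).app V) := by
  let _ := Groth.QCohMod.sectionsAlg f e
  let _ : Module Γ(X, U) Γ((Scheme.Modules.pullback f).obj E, V) :=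
    Module.compHom _ (f.appLE U V e).hom
  let _ : Module Γ(X, U) Γ((Scheme.Modules.pullback f).obj (extPow i E), V) :=
    Module.compHom _ (f.appLE U V e).hom
  let _ : Module Γ(X, U) Γ(extPow i ((Scheme.Modules.pullback f).obj E), V) :=
    Module.compHom _ (f.appLE U V e).hom
  have : IsScalarTower Γ(X, U) Γ(Y, V) Γ((Scheme.Modules.pullback f).obj E, V) :=
    IsScalarTower.of_algebraMap_smul fun _ _ => rfl
  have : IsScalarTower Γ(X, U) Γ(Y, V) Γ((Scheme.Modules.pullback f).obj (extPow i E), V) :=
    IsScalarTower.of_algebraMap_smul fun _ _ => rfl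
  have : IsScalarTower Γ(X, U) Γ(Y, V) Γ(extPow i ((Scheme.Modules.pullback f).obj E), V) :=
    IsScalarTower.of_algebraMap_smul fun _ _ => rfl
  have hq := isQCoh_extPow i E
  let c : Γ(E, U) →ₗ[Γ(X, U)] Γ((Scheme.Modules.pullback f).obj E, V) := pullSecₗ f E e
  have hc : IsBaseChange Γ(Y, V) c := isBaseChange_pullSecₗ f E e hU hV
  have ha := (isBaseChange_pullSecₗ f (extPow i E) e hU hV).comp_equiv
    (LinearEquiv.ofBijective (extUnit i E U) (extUnit_bijective i E hU))
  have hb' := extMap_isBaseChange (S := Γ(Y, V)) i c hc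
  let E' := (Scheme.Modules.pullback f).obj E
  let B' := LinearEquiv.ofBijective (extUnit i E' V) (extUnit_bijective i E' hV)
  have hb : IsBaseChange Γ(Y, V)
      ((B'.toLinearMap.restrictScalars Γ(X, U)) ∘ₗ extMap (S := Γ(Y, V)) i c) :=
    hb'.comp (IsBaseChange.ofEquiv B')
  refine bijective_of_isBaseChange ha hb (Groth.QCohMod.appₗ (pullExtHom f i E) V) ?_
  refine exteriorPower.linearMap_ext (AlternatingMap.ext fun w => ?_)
  simp only [LinearMap.compAlternatingMap_apply, LinearMap.coe_comp, Function.comp_apply,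
    LinearMap.coe_restrictScalars, extMap_ιMulti]
  exact pullExtHom_res_pullSec f i E e w

instance isIso_pullExtHom : IsIso (pullExtHom f i E) := by
  refine isIso_of_small_affine _ fun y W hy => ?_
  obtain ⟨U, hU, hxU⟩ := Groth.QCohMod.exists_affine_mem (f.base y)
  obtain ⟨_, ⟨V, hV, rfl⟩, hyV, hVW⟩ := Y.isBasis_affineOpens.exists_subset_of_mem_open
    (show y ∈ ((f ⁻¹ᵁ U ⊓ W : Y.Opens) : Set Y) from ⟨hxU, hy⟩) (f ⁻¹ᵁ U ⊓ W).2
  have hle : V ≤ f ⁻¹ᵁ U ⊓ W := hVW
  exact ⟨V, hV, hyV, hle.trans inf_le_right,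
    pullExtHom_bijective f i E hU hV (hle.trans inf_le_left)⟩

omit [E.IsQuasicoherent] in
/-- Pullback of an exterior power is an exterior power of the pullback. -/
theorem isExtPow_pullback {i : ℕ} {E L : X.Modules} [E.IsQuasicoherent]
    (h : ExtPow.IsExtPow i E L) :
    ExtPow.IsExtPow i ((Scheme.Modules.pullback f).obj E) ((Scheme.Modules.pullback f).obj L) := by
  obtain ⟨ε⟩ := nonempty_iso_extPow h
  exact isExtPow_of_iso ((asIso (pullExtHom f i E)).symm ≪≫ (Scheme.Modules.pullback f).mapIso ε)
    (isExtPow_extPow i _)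

end Groth.LocFree
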