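import Groth.Agent.LocFree.Rank

/-!
# Short exact sequences of finite locally free modules
-/

universe u

open CategoryTheory CategoryTheory.Limits AlgebraicGeometry Opposite TopologicalSpace

namespace Groth.LocFree

variable {X : Scheme.{u}}

/-- The kernel of an epimorphism of finite locally free modules is finite locally free. -/
theorem isFinLocFree_left {S : ShortComplex X.Modules} (hS : S.ShortExact)
    (h₂ : FlatMod.IsFinLocFree S.X₂) (h₃ : FlatMod.IsFinLocFree S.X₃) :
    FlatMod.IsFinLocFree S.X₁ := by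
  have := KTheory.LocFree.isQCoh h₂
  have := KTheory.LocFree.isQCoh h₃
  have := hS.mono_f
  have := hS.epi_g
  have : S.X₁.IsQuasicoherent := Groth.QCohMod.isQCoh_of_mono_exact hS.exact
  refine isFinLocFree_of_affine_cover fun x => ?_
  obtain ⟨U, hU, hx⟩ := Groth.QCohMod.exists_affine_mem x
  refine ⟨U, hU, hx, ?_⟩
  obtain ⟨hfin₂, hproj₂⟩ := finite_projective_sections h₂ hU
  obtain ⟨hfin₃, hproj₃⟩ := finite_projective_sections h₃ hU
  let f := Groth.QCohMod.appₗ S.f U
  let g := Groth.QCohMod.appₗ S.g U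
  have hinj : Function.Injective f := Groth.QCohMod.app_injective_of_mono S.f U
  have hsurj : Function.Surjective g := Groth.QCohMod.app_surjective_of_epi S.g hU
  have hex : Function.Exact f g := fun m => by
    refine ⟨fun hm => Groth.QCohMod.exists_app_eq_of_mono_exact hS.exact U m hm, ?_⟩
    rintro ⟨a, rfl⟩
    exact congr(($(S.zero)).app U a)
  obtain ⟨l, hl⟩ := Module.projective_lifting_property g LinearMap.id hsurj
  obtain ⟨e, he, -⟩ := hex.splitSurjectiveEquiv hinj ⟨l, hl⟩
  let p := (LinearMap.fst _ _ _).comp e.toLinearMap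
  have hp : p.comp f = LinearMap.id := by
    ext a
    simp only [p, LinearMap.coe_comp, LinearEquiv.coe_coe, Function.comp_apply, LinearMap.id_apply]
    rw [he]
    simp
  refine ⟨Module.Finite.of_surjective p (fun a => ⟨f a, LinearMap.congr_fun hp a⟩), ?_⟩
  exact Module.Projective.of_split f p hp

/-- Ranks add in short exact sequences. -/
theorem finrank_stalk_add {S : ShortComplex X.Modules} (hS : S.ShortExact)
    (h₁ : FlatMod.IsFinLocFree S.X₁) (h₃ : FlatMod.IsFinLocFree S.X₃) (x : X) :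
    Module.finrank (X.presheaf.stalk x) (S.X₂.presheaf.stalk x) =
      Module.finrank (X.presheaf.stalk x) (S.X₁.presheaf.stalk x) +
        Module.finrank (X.presheaf.stalk x) (S.X₃.presheaf.stalk x) := by
  have := KTheory.LocFree.free_stalk h₁ x
  have := KTheory.LocFree.free_stalk h₃ x
  have := finite_stalk h₁ x
  have := finite_stalk h₃ x
  obtain ⟨hinj, hex, hsurj⟩ := KTheory.LocFree.stalk_exact hS x
  obtain ⟨l, hl⟩ := Module.projective_lifting_property (KTheory.LocFree.stalkₗ S.g x) LinearMap.id hsurj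
  obtain ⟨e, -, -⟩ := hex.splitSurjectiveEquiv hinj ⟨l, hl⟩
  rw [e.finrank_eq, Module.finrank_prod]

theorem isFinLocFreeOfRank_of_shortExact {S : ShortComplex X.Modules} (hS : S.ShortExact) {a b : ℕ}
    (h₁ : FlatMod.IsFinLocFreeOfRank a S.X₁) (h₃ : FlatMod.IsFinLocFreeOfRank b S.X₃) :
    FlatMod.IsFinLocFreeOfRank (a + b) S.X₂ := by
  refine isFinLocFreeOfRank_iff_finrank.2
    ⟨KTheory.LocFree.isFinLocFree_of_shortExact hS (isFinLocFree_of_rank h₁)
      (isFinLocFree_of_rank h₃), fun x => ?_⟩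
  rw [finrank_stalk_add hS (isFinLocFree_of_rank h₁) (isFinLocFree_of_rank h₃) x,
    finrank_stalk h₁ x, finrank_stalk h₃ x]

theorem isFinLocFreeOfRank_left {S : ShortComplex X.Modules} (hS : S.ShortExact) {a b : ℕ}
    (h₂ : FlatMod.IsFinLocFreeOfRank (a + b) S.X₂) (h₃ : FlatMod.IsFinLocFreeOfRank b S.X₃) :
    FlatMod.IsFinLocFreeOfRank a S.X₁ := by
  have h₁ := isFinLocFree_left hS (isFinLocFree_of_rank h₂) (isFinLocFree_of_rank h₃)
  refine isFinLocFreeOfRank_iff_finrank.2 ⟨h₁, fun x => ?_⟩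
  have := finrank_stalk_add hS h₁ (isFinLocFree_of_rank h₃) x
  rw [finrank_stalk h₂ x, finrank_stalk h₃ x] at this
  omega

theorem isFinLocFreeOfRank_biprod {M N : X.Modules} {a b : ℕ}
    (hM : FlatMod.IsFinLocFreeOfRank a M) (hN : FlatMod.IsFinLocFreeOfRank b N) :
    FlatMod.IsFinLocFreeOfRank (a + b) (M ⊞ N) :=
  isFinLocFreeOfRank_of_shortExact
    (S := ShortComplex.mk (biprod.inl : M ⟶ M ⊞ N) biprod.snd (by simp))
    (ShortComplex.Splitting.shortExact { r := biprod.fst, s := biprod.inr }) hM hN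

end Groth.LocFree
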