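import Groth.Agent.LocFree.ExtPow
import Groth.Agent.LocFree.ExtLift

/-!
# Functoriality of exterior powers
-/

universe u

open CategoryTheory AlgebraicGeometry Opposite TopologicalSpace

namespace Groth.LocFree

open Groth.PicAux

variable {X : Scheme.{u}} (i : ℕ) {E E' E'' : X.Modules}

/-- `e ↦ φ e₁ ∧ ⋯ ∧ φ eᵢ`. -/
noncomputable def mapWedge (φ : E ⟶ E') (U : X.Opens) :
    Γ(E, U) [⋀^Fin i]→ₗ[Γ(X, U)] Γ(extPow i E', U) :=
  (extUnit i E' U).compAlternatingMap
    ((exteriorPower.ιMulti Γ(X, U) i).compLinearMap (Groth.QCohMod.appₗ φ U))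

theorem mapWedge_apply (φ : E ⟶ E') (U : X.Opens) (e : Fin i → Γ(E, U)) :
    mapWedge i φ U e = wedge i E' fun j => φ.app U (e j) := rfl

theorem res_mapWedge (φ : E ⟶ E') (U V : X.Opens) (h : V ≤ U) (e : Fin i → Γ(E, U)) :
    res (extPow i E') h (mapWedge i φ U e) = mapWedge i φ V fun j => res E h (e j) := by
  rw [mapWedge_apply, mapWedge_apply, res_wedge]
  exact congrArg _ (funext fun j => (app_res φ h (e j)).symm)

/-- The map `⋀ⁱ φ`. -/
noncomputable def extHom (φ : E ⟶ E') : extPow i E ⟶ extPow i E' :=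
  extLift i E (mapWedge i φ) (res_mapWedge i φ)

theorem extHom_wedge (φ : E ⟶ E') (U : X.Opens) (e : Fin i → Γ(E, U)) :
    (extHom i φ).app U (wedge i E e) = wedge i E' fun j => φ.app U (e j) :=
  extLift_wedge i E (mapWedge i φ) (res_mapWedge i φ) U e

theorem extHom_id : extHom i (𝟙 E) = 𝟙 _ :=
  extPow_hom_ext i E fun U e => extHom_wedge i (𝟙 E) U e

theorem extHom_comp (φ : E ⟶ E') (ψ : E' ⟶ E'') : extHom i (φ ≫ ψ) = extHom i φ ≫ extHom i ψ :=
  extPow_hom_ext i E fun U e => by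
    rw [extHom_wedge]
    change _ = (extHom i ψ).app U ((extHom i φ).app U (wedge i E e))
    rw [extHom_wedge, extHom_wedge]
    rfl

/-- `⋀ⁱ` of an isomorphism. -/
noncomputable def extIso (e : E ≅ E') : extPow i E ≅ extPow i E' where
  hom := extHom i e.hom
  inv := extHom i e.inv
  hom_inv_id := by rw [← extHom_comp, e.hom_inv_id, extHom_id]
  inv_hom_id := by rw [← extHom_comp, e.inv_hom_id, extHom_id]

/-- Exterior powers of isomorphic modules. -/
theorem isExtPow_of_iso_left {L : X.Modules} [E.IsQuasicoherent] (e : E ≅ E')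
    (h : ExtPow.IsExtPow i E L) : ExtPow.IsExtPow i E' L := by
  have : E'.IsQuasicoherent := (Groth.QCohMod.isQCoh_iff_of_iso e).1 inferInstance
  exact isExtPow_iff.2 ⟨(extIso i e).symm ≪≫ (nonempty_iso_extPow h).some⟩

end Groth.LocFree
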