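import Mathlib.RingTheory.Spectrum.Prime.FreeLocus
import Mathlib.RingTheory.LocalProperties.Projective
import Groth.Agent.FlatmorThree.ProjLocal
import Mathlib.RingTheory.Localization.Finiteness

/-!
# Families which become a basis after inverting an element
-/

universe u

namespace Groth.LocFree

variable {R M : Type*} [CommRing R] [AddCommGroup M] [Module R M]

/-- `m` becomes a basis of `M` after inverting `r`. -/
def IsBasisAway (r : R) {n : ℕ} (m : Fin n → M) : Prop :=
  (∀ c : Fin n → R, ∑ i, c i • m i = 0 → ∃ k : ℕ, ∀ i, r ^ k * c i = 0) ∧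
    ∀ x : M, ∃ (k : ℕ) (c : Fin n → R), r ^ k • x = ∑ i, c i • m i

lemma isBasisAway_of_basis (r : R) {n : ℕ} (b : Module.Basis (Fin n) R M) :
    IsBasisAway r b :=
  ⟨fun c hc => ⟨0, fun i => by
    rw [pow_zero, one_mul]; exact Fintype.linearIndependent_iff.mp b.linearIndependent c hc i⟩,
    fun x => ⟨0, b.repr x, by rw [pow_zero, one_smul, b.sum_repr]⟩⟩

/-- A basis away from a unit is a basis. -/
lemma exists_basis_of_isBasisAway_one {n : ℕ} {m : Fin n → M} (h : IsBasisAway (1 : R) m) :
    ∃ b : Module.Basis (Fin n) R M, ∀ i, b i = m i := by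
  have li : LinearIndependent R m := Fintype.linearIndependent_iff.mpr fun c hc i => by
    obtain ⟨k, hk⟩ := h.1 c hc
    simpa using hk i
  refine ⟨Module.Basis.mk li fun x _ => ?_, fun i => Module.Basis.mk_apply _ _ i⟩
  obtain ⟨k, c, hc⟩ := h.2 x
  rw [one_pow, one_smul] at hc
  rw [hc]
  exact Submodule.sum_mem _ fun i _ => Submodule.smul_mem _ _ (Submodule.subset_span ⟨i, rfl⟩)

/-- A family which is a basis away from `r` gives a free localization. -/
theorem free_localizedModule (r : R) {n : ℕ} {m : Fin n → M} (h : IsBasisAway r m) :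
    ∃ b : Module.Basis (Fin n) (Localization (Submonoid.powers r)) (LocalizedModule.Away r M),
      ∀ i, b i = LocalizedModule.mkLinearMap (Submonoid.powers r) M (m i) := by
  classical
  let S := Submonoid.powers r
  let f := LocalizedModule.mkLinearMap S M
  let v : Fin n → LocalizedModule S M := fun i => f (m i)
  have li : LinearIndependent (Localization S) v := by
    refine Fintype.linearIndependent_iff.mpr fun g hg i => ?_
    obtain ⟨s, hs⟩ := IsLocalization.exist_integer_multiples_of_finite S g
    choose c hc using hs
    have h0 : f (∑ i, c i • m i) = 0 := by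
      rw [map_sum]
      calc ∑ i, f (c i • m i) = ∑ i, (algebraMap R (Localization S) s.1 * g i) • v i := by
            refine Finset.sum_congr rfl fun i _ => ?_
            rw [map_smul, ← algebraMap_smul (Localization S) (c i), hc i, Algebra.smul_def]
        _ = algebraMap R (Localization S) s.1 • ∑ i, g i • v i := by
            rw [Finset.smul_sum]; simp_rw [mul_smul]
        _ = 0 := by rw [hg, smul_zero]
    obtain ⟨⟨_, j, rfl⟩, hj⟩ := (IsLocalizedModule.eq_zero_iff S f).mp h0
    replace hj : r ^ j • ∑ i, c i • m i = 0 := hj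
    rw [Finset.smul_sum] at hj
    simp_rw [← mul_smul] at hj
    obtain ⟨k, hk⟩ := h.1 _ hj
    have hu : IsUnit (algebraMap R (Localization S) (r ^ (k + j) * s.1)) :=
      IsLocalization.map_units _ (⟨_, Submonoid.mul_mem _ ⟨k + j, rfl⟩ s.2⟩ : S)
    refine hu.mul_right_eq_zero.mp ?_
    rw [map_mul, mul_assoc, ← Algebra.smul_def s.1 (g i), ← hc i, ← map_mul, pow_add, mul_assoc,
      hk i, map_zero]
  refine ⟨Module.Basis.mk li fun z _ => ?_, fun i => Module.Basis.mk_apply _ _ i⟩
  obtain ⟨⟨x, s⟩, hs⟩ := IsLocalizedModule.surj S f z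
  obtain ⟨k, c, hc⟩ := h.2 x
  have hu : IsUnit (algebraMap R (Localization S) (r ^ k * s.1)) :=
    IsLocalization.map_units _ (⟨_, Submonoid.mul_mem _ ⟨k, rfl⟩ s.2⟩ : S)
  rw [← Submodule.smul_mem_iff_of_isUnit _ hu, algebraMap_smul, mul_smul]
  have hs' : s.1 • z = f x := hs
  rw [hs', ← map_smul, hc, map_sum]
  refine Submodule.sum_mem _ fun i _ => ?_
  rw [map_smul, ← algebraMap_smul (Localization S) (c i)]
  exact Submodule.smul_mem _ _ (Submodule.subset_span ⟨i, rfl⟩)

/-- A free finite localization away from `r` gives a family which is a basis away from `r`. -/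
theorem exists_isBasisAway (r : R) [Module.Free (Localization (Submonoid.powers r)) (LocalizedModule.Away r M)]
    [Module.Finite (Localization (Submonoid.powers r)) (LocalizedModule.Away r M)]
    [Nontrivial (Localization (Submonoid.powers r))] :
    ∃ m : Fin (Module.finrank (Localization (Submonoid.powers r)) (LocalizedModule.Away r M)) → M,
      IsBasisAway r m := by
  let S := Submonoid.powers r
  let f := LocalizedModule.mkLinearMap S M
  let b := Module.finBasis (Localization S) (LocalizedModule S M)
  choose p hp using fun i => IsLocalizedModule.surj S f (b i)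
  let w : _ → (Localization S)ˣ := fun i =>
    (IsLocalization.map_units (Localization S) (p i).2).unit
  let b' := b.unitsSMul w
  have hb' : ∀ i, b' i = f (p i).1 := fun i => by
    rw [Module.Basis.unitsSMul_apply, Units.smul_def, IsUnit.unit_spec, algebraMap_smul]
    exact hp i
  refine ⟨fun i => (p i).1, fun c hc => ?_, fun x => ?_⟩
  · have h0 : ∑ i, algebraMap R (Localization S) (c i) • b' i = 0 := by
      simp_rw [hb', algebraMap_smul, ← map_smul, ← map_sum, hc, map_zero]
    have h1 : ∀ i, ∃ k : ℕ, r ^ k * c i = 0 := fun i => by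
      obtain ⟨⟨_, k, rfl⟩, hk⟩ := (IsLocalization.map_eq_zero_iff S (Localization S) (c i)).mp
        (Fintype.linearIndependent_iff.mp b'.linearIndependent _ h0 i)
      exact ⟨k, hk⟩
    choose k hk using h1
    refine ⟨Finset.univ.sup k, fun i => ?_⟩
    obtain ⟨j, hj⟩ := Nat.exists_eq_add_of_le (Finset.le_sup (f := k) (Finset.mem_univ i))
    rw [hj, pow_add, mul_right_comm, hk, zero_mul]
  · obtain ⟨⟨s, hs⟩, hc⟩ := IsLocalization.exist_integer_multiples_of_finite S (b'.repr (f x))
    choose c hc using hc
    have h0 : f (s • x) = f (∑ i, c i • (p i).1) := by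
      rw [map_smul, map_sum]
      conv_lhs => rw [← b'.sum_repr (f x), Finset.smul_sum]
      refine Finset.sum_congr rfl fun i _ => ?_
      rw [map_smul, ← hb', ← algebraMap_smul (Localization S) (c i), hc i, smul_assoc]
    obtain ⟨⟨_, j, rfl⟩, hj⟩ := (IsLocalizedModule.eq_iff_exists S f).mp h0
    obtain ⟨l, rfl⟩ := hs
    refine ⟨j + l, fun i => r ^ j * c i, ?_⟩
    rw [pow_add, mul_smul]
    simp_rw [mul_smul, ← Finset.smul_sum]
    exact hj

/-- A finitely presented module whose localization at a prime is free has a basis away from some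
element outside the prime. -/
theorem exists_isBasisAway_of_free_at [Module.FinitePresentation R M] (p : PrimeSpectrum R)
    (hp : p ∈ Module.freeLocus R M) :
    ∃ (r : R) (n : ℕ) (m : Fin n → M), r ∉ p.asIdeal ∧ IsBasisAway r m ∧
      n = Module.rankAtStalk M p := by
  have : Module.Free _ _ := hp
  obtain ⟨r, hr, hfree, hrank⟩ := Module.FinitePresentation.exists_free_localizedModule_powers
    p.asIdeal.primeCompl (LocalizedModule.mkLinearMap p.asIdeal.primeCompl M)
    (Localization.AtPrime p.asIdeal)
  have : Module.Finite (Localization (Submonoid.powers r)) (LocalizedModule.Away r M) :=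
    Module.Finite.of_isLocalizedModule (Submonoid.powers r)
      (LocalizedModule.mkLinearMap (Submonoid.powers r) M)
  have : Nontrivial (Localization (Submonoid.powers r)) := by
    refine OreLocalization.nontrivial_iff.mpr ?_
    rintro ⟨k, hk⟩
    exact hr (p.isPrime.mem_of_pow_mem k (by rw [show r ^ k = 0 from hk]; exact zero_mem _))
  obtain ⟨m, hm⟩ := exists_isBasisAway (M := M) r
  exact ⟨r, _, m, hr, hm, hrank⟩

/-- A module with bases away from elements generating the unit ideal is finite projective. -/
theorem finite_projective_of_isBasisAway {R M : Type u} [CommRing R] [AddCommGroup M] [Module R M]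
    {ι : Type*} (r : ι → R) (hr : Ideal.span (Set.range r) = ⊤)
    (h : ∀ i, ∃ (n : ℕ) (m : Fin n → M), IsBasisAway (r i) m) :
    Module.Finite R M ∧ Module.Projective R M := by
  choose n m hm using h
  choose b _hb using fun i => free_localizedModule (r i) (hm i)
  constructor
  · refine Module.Finite.of_localizationSpan' (Set.range r) hr
      (fun g => LocalizedModule.mkLinearMap (Submonoid.powers g.1) M)
      (Rₚ := fun g => Localization (Submonoid.powers g.1)) ?_
    rintro ⟨_, i, rfl⟩
    exact .of_basis (b i)
  · refine Groth.FlatmorThree.projective_of_localized_span M (Set.range r) hr ?_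
    rintro ⟨_, i, rfl⟩
    have : Module.Free (Localization (Submonoid.powers (r i)))
      (LocalizedModule (Submonoid.powers (r i)) M) := .of_basis (b i)
    infer_instance

end Groth.LocFree
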