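import Mathlib.LinearAlgebra.ExteriorPower.Basic
import Mathlib.LinearAlgebra.ExteriorAlgebra.Grading
import Mathlib.RingTheory.IsTensorProduct
import Mathlib.RingTheory.TensorProduct.Maps
import Mathlib.RingTheory.Localization.BaseChange

/-!
# Exterior powers commute with base change
-/

universe u

open TensorProduct

namespace Groth.LocFree

variable {R S M N : Type u} [CommRing R] [CommRing S] [Algebra R S] [AddCommGroup M] [Module R M]
  [AddCommGroup N] [Module R N] [Module S N] [IsScalarTower R S N]

section

variable (n : ℕ) (f : M →ₗ[R] N)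

/-- `(m₁, …, mₙ) ↦ f m₁ ∧ … ∧ f mₙ` with wedges taken over `S`. -/
noncomputable def extAlt : M [⋀^Fin n]→ₗ[R] ⋀[S]^n N where
  toFun m := exteriorPower.ιMulti S n fun i => f (m i)
  map_update_add' m i x y := by
    simp only [← Function.comp_def f, Function.comp_update, map_add,
      AlternatingMap.map_update_add]
  map_update_smul' m i r x := by
    simp only [← Function.comp_def f, Function.comp_update, map_smul]
    rw [← algebraMap_smul S r (f x), AlternatingMap.map_update_smul, algebraMap_smul]
  map_eq_zero_of_eq' m i j h hij :=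
    (exteriorPower.ιMulti S n).map_eq_zero_of_eq _ (by simp [h]) hij

/-- The map on exterior powers induced by a map semilinear along `R → S`. -/
noncomputable def extMap : ⋀[R]^n M →ₗ[R] ⋀[S]^n N :=
  exteriorPower.alternatingMapLinearEquiv (extAlt (S := S) n f)

@[simp]
theorem extMap_ιMulti (m : Fin n → M) :
    extMap (S := S) n f (exteriorPower.ιMulti R n m) =
      exteriorPower.ιMulti S n fun i => f (m i) :=
  exteriorPower.alternatingMapLinearEquiv_apply_ιMulti _ _

/-- Exterior powers commute with base change. -/
theorem extMap_isBaseChange (hf : IsBaseChange S f) : IsBaseChange S (extMap (S := S) n f) := by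
  let g₀ : N →ₗ[S] S ⊗[R] ExteriorAlgebra R M :=
    hf.lift ((TensorProduct.mk R S (ExteriorAlgebra R M) 1).comp (ExteriorAlgebra.ι R))
  have hg₀ : ∀ m, g₀ (f m) = (1 : S) ⊗ₜ ExteriorAlgebra.ι R m := fun m => hf.lift_eq _ m
  have hanti : ∀ x y, g₀ x * g₀ y + g₀ y * g₀ x = 0 := fun x y => by
    induction x using hf.inductionOn with
    | zero => simp
    | smul s a h => simp [h, ← smul_add]
    | add a b ha hb =>
      rw [map_add, add_mul, mul_add, add_add_add_comm, ha, hb, add_zero]
    | tmul a =>
      induction y using hf.inductionOn with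
      | zero => simp
      | smul s b h => simp [h, ← smul_add]
      | add b c hb hc =>
        rw [map_add, add_mul, mul_add, add_add_add_comm, hb, hc, add_zero]
      | tmul b =>
        rw [hg₀, hg₀, Algebra.TensorProduct.tmul_mul_tmul, Algebra.TensorProduct.tmul_mul_tmul,
          ← TensorProduct.tmul_add, ExteriorAlgebra.ι_add_mul_swap, TensorProduct.tmul_zero]
  have hsq : ∀ x, g₀ x * g₀ x = 0 := fun x => by
    induction x using hf.inductionOn with
    | zero => simp
    | smul s a h => simp [h]
    | add a b ha hb =>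
      rw [map_add, add_mul, mul_add, mul_add, ha, hb, zero_add, add_zero, hanti]
    | tmul a =>
      rw [hg₀, Algebra.TensorProduct.tmul_mul_tmul, ExteriorAlgebra.ι_sq_zero,
        TensorProduct.tmul_zero]
  let L : ExteriorAlgebra S N →ₐ[S] S ⊗[R] ExteriorAlgebra R M :=
    ExteriorAlgebra.lift S ⟨g₀, hsq⟩
  let p : ExteriorAlgebra R M →ₗ[R] ⋀[R]^n M :=
    (GradedAlgebra.proj (fun i : ℕ => ⋀[R]^i M) n).codRestrict (⋀[R]^n M) fun x => by
      rw [GradedAlgebra.proj_apply]; exact SetLike.coe_mem _
  let g : ⋀[S]^n N →ₗ[S] S ⊗[R] ⋀[R]^n M :=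
    p.baseChange S ∘ₗ L.toLinearMap ∘ₗ Submodule.subtype _
  let A : S ⊗[R] ⋀[R]^n M →ₗ[S] ⋀[S]^n N :=
    (TensorProduct.isBaseChange R (⋀[R]^n M) S).lift (extMap (S := S) n f)
  have hA : ∀ z : ⋀[R]^n M, A (1 ⊗ₜ z) = extMap (S := S) n f z := fun z =>
    (TensorProduct.isBaseChange R (⋀[R]^n M) S).lift_eq _ z
  have hg : ∀ m : Fin n → M, g (exteriorPower.ιMulti S n fun i => f (m i)) =
      (1 : S) ⊗ₜ exteriorPower.ιMulti R n m := by
    intro m
    have hL : L (exteriorPower.ιMulti S n fun i => f (m i) : ⋀[S]^n N) =
        (1 : S) ⊗ₜ (exteriorPower.ιMulti R n m : ExteriorAlgebra R M) := by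
      simp only [exteriorPower.ιMulti_apply_coe, ExteriorAlgebra.ιMulti_apply, map_list_prod,
        List.map_ofFn, Function.comp_def, L, ExteriorAlgebra.lift_ι_apply, hg₀]
      have h := map_list_prod (Algebra.TensorProduct.includeRight (R := R) (A := S)
        (B := ExteriorAlgebra R M)) (List.ofFn fun i => ExteriorAlgebra.ι R (m i))
      simp only [List.map_ofFn, Function.comp_def, Algebra.TensorProduct.includeRight_apply] at h
      exact h.symm
    have hp : p (exteriorPower.ιMulti R n m : ExteriorAlgebra R M) =
        exteriorPower.ιMulti R n m := by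
      refine Subtype.ext ?_
      simp only [p, LinearMap.codRestrict_apply, GradedAlgebra.proj_apply]
      exact DirectSum.decompose_of_mem_same _ (SetLike.coe_mem _)
    change p.baseChange S (L (exteriorPower.ιMulti S n fun i => f (m i) : ⋀[S]^n N)) = _
    rw [hL, LinearMap.baseChange_tmul, hp]
  have hgA : g ∘ₗ A = LinearMap.id := by
    refine (TensorProduct.isBaseChange R (⋀[R]^n M) S).algHom_ext' _ _ ?_
    refine exteriorPower.linearMap_ext (AlternatingMap.ext fun m => ?_)
    simpa [hA] using hg m
  have hspan : Submodule.span S (Set.range f) = ⊤ := by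
    refine eq_top_iff.2 fun x _ => ?_
    induction x using hf.inductionOn with
    | zero => exact zero_mem _
    | tmul a => exact Submodule.subset_span ⟨a, rfl⟩
    | smul s a h => exact Submodule.smul_mem _ _ (h trivial)
    | add a b ha hb => exact Submodule.add_mem _ (ha trivial) (hb trivial)
  have hAg : A ∘ₗ g = LinearMap.id := by
    refine LinearMap.ext_on (exteriorPower.ιMulti_span_of_span S n N hspan) ?_
    rintro _ ⟨a, ha, rfl⟩
    choose m hm using fun i => ha ⟨i, rfl⟩
    obtain rfl : a = fun i => f (m i) := funext fun i => (hm i).symm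
    simp [hg, hA]
  refine IsBaseChange.of_equiv (LinearEquiv.ofLinearMap A g hAg hgA) fun z => ?_
  exact hA z

/-- Exterior powers commute with localization. -/
theorem extMap_isLocalizedModule (T : Submonoid R) [IsLocalization T S] [IsLocalizedModule T f] :
    IsLocalizedModule T (extMap (S := S) n f) :=
  (isLocalizedModule_iff_isBaseChange T S _).2
    (extMap_isBaseChange n f ((isLocalizedModule_iff_isBaseChange T S f).1 inferInstance))

end

end Groth.LocFree
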