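import Groth.Agent.PicAux.Tensor
import Groth.Agent.QCohMod.ClosedImm
import Groth.Agent.KTheory.LocFree

/-!
# Sheafification of presheaves of modules which are localizing on affine opens
-/

universe u

open CategoryTheory AlgebraicGeometry Opposite TopologicalSpace

namespace Groth.LocFree

open Groth.PicAux

variable {X : Scheme.{u}} (P : X.PresheafOfModules)

/-- Sections of a presheaf of modules. -/
abbrev PSec (U : X.Opens) : Type u := P.obj (op U)

noncomputable instance psecModule (U : X.Opens) : Module Γ(X, U) (PSec P U) :=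
  (P.obj (op U)).isModule

/-- Restriction of sections of a presheaf of modules. -/
noncomputable def pres {U V : X.Opens} (h : V ≤ U) : PSec P U →+ PSec P V :=
  (P.presheaf.map (homOfLE h).op).hom

theorem pres_smul {U V : X.Opens} (h : V ≤ U) (r : Γ(X, U)) (p : PSec P U) :
    pres P h (r • p) = resX X h r • pres P h p :=
  P.map_smul (homOfLE h).op r p

theorem pres_pres {U V W : X.Opens} (h : V ≤ U) (h' : W ≤ V) (p : PSec P U) :
    pres P h' (pres P h p) = pres P (h'.trans h) p := by
  change (P.presheaf.map _ ≫ P.presheaf.map _).hom p = _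
  rw [← Functor.map_comp]
  rfl

/-- The sheaf of modules associated to a presheaf of modules. -/
noncomputable def sheafify : X.Modules := (CohB1.sheafifyMod X).obj P

/-- The unit of sheafification. -/
noncomputable def sheafUnit : P ⟶ (sheafify P).val :=
  (PresheafOfModules.sheafificationAdjunction (𝟙 X.ringCatSheaf.obj)).unit.app P

/-- The unit of sheafification on sections. -/
noncomputable def unitSec (U : X.Opens) : PSec P U →+ Γ(sheafify P, U) :=
  (((PresheafOfModules.toPresheaf _).map (sheafUnit P)).app (op U)).hom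

theorem unitSec_res {U V : X.Opens} (h : V ≤ U) (p : PSec P U) :
    unitSec P V (pres P h p) = res _ h (unitSec P U p) :=
  congr($(((PresheafOfModules.toPresheaf _).map (sheafUnit P)).naturality (homOfLE h).op).hom p)

theorem unitSec_smul {U : X.Opens} (r : Γ(X, U)) (p : PSec P U) :
    unitSec P U (r • p) = r • unitSec P U p :=
  ((sheafUnit P).app (op U)).hom.map_smul r p

theorem unitSec_locally_surjective (U : X.Opens) (t : Γ(sheafify P, U)) (x : X) (hx : x ∈ U) :
    ∃ (V : X.Opens) (h : V ≤ U) (p : PSec P V), x ∈ V ∧ unitSec P V p = res _ h t := by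
  have hs : Presheaf.IsLocallySurjective (Opens.grothendieckTopology X)
      (CategoryTheory.toSheafify (Opens.grothendieckTopology X) P.presheaf) := inferInstance
  obtain ⟨V, i, ⟨p, hp⟩, hxV⟩ := hs.imageSieve_mem t x hx
  exact ⟨V, leOfHom i, p, hxV, hp⟩

theorem unitSec_locally_injective (U : X.Opens) (p q : PSec P U)
    (hpq : unitSec P U p = unitSec P U q) (x : X) (hx : x ∈ U) :
    ∃ (V : X.Opens) (h : V ≤ U), x ∈ V ∧ pres P h p = pres P h q := by
  have hs : Presheaf.IsLocallyInjective (Opens.grothendieckTopology X)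
      (CategoryTheory.toSheafify (Opens.grothendieckTopology X) P.presheaf) := inferInstance
  obtain ⟨V, i, hi, hxV⟩ := hs.equalizerSieve_mem (X := op U) p q hpq x hx
  exact ⟨V, leOfHom i, hxV, hi⟩

/-- A morphism into a sheaf extends to the sheafification. -/
theorem exists_hom_sheafify {L : X.Modules} (φ : P ⟶ L.val) :
    ∃ ψ : sheafify P ⟶ L, ∀ (U : X.Opens) (p : PSec P U), ψ.app U (unitSec P U p) = φ.app (op U) p := by
  let adj := PresheafOfModules.sheafificationAdjunction (𝟙 X.ringCatSheaf.obj)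
  refine ⟨(adj.homEquiv P L).symm φ, fun U p => ?_⟩
  have e : (adj.homEquiv P L) ((adj.homEquiv P L).symm φ) = φ := Equiv.apply_symm_apply _ _
  exact congr(($((adj.homEquiv_unit P L ((adj.homEquiv P L).symm φ)).symm.trans e)).app (op U) p)

/-- Morphisms out of a sheafification are determined on sections of the presheaf. -/
theorem sheafify_hom_ext {L : X.Modules} {ψ ψ' : sheafify P ⟶ L}
    (h : ∀ (U : X.Opens) (p : PSec P U), ψ.app U (unitSec P U p) = ψ'.app U (unitSec P U p)) :
    ψ = ψ' := by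
  ext U t
  choose V hV p hxV hp using fun x : U => unitSec_locally_surjective P U t x.1 x.2
  refine res_ext V hV (fun x hx => Opens.mem_iSup.2 ⟨⟨x, hx⟩, hxV _⟩) fun x => ?_
  rw [← app_res, ← app_res, ← hp x]
  exact h _ _

/-- Sections over `D(f)` of a presheaf of modules are localizations of sections over affine `U`. -/
structure IsLocalizingPre : Prop where
  exists_smul : ∀ {U : X.Opens}, IsAffineOpen U → ∀ (f : Γ(X, U)) (t : PSec P (X.basicOpen f)),
    ∃ (k : ℕ) (b : PSec P U),
      pres P (X.basicOpen_le f) b = resX X (X.basicOpen_le f) f ^ k • t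
  exists_zero : ∀ {U : X.Opens}, IsAffineOpen U → ∀ (f : Γ(X, U)) (b : PSec P U),
    pres P (X.basicOpen_le f) b = 0 → ∃ k : ℕ, f ^ k • b = 0

variable {P} (hP : IsLocalizingPre P) {U : X.Opens} (hU : IsAffineOpen U)

include hP hU

theorem unitSec_injective : Function.Injective (unitSec P U) := by
  refine (injective_iff_map_eq_zero _).2 fun p hp => ?_
  have h : ∀ x : U, ∃ g : Γ(X, U), x.1 ∈ X.basicOpen g ∧ ∃ k : ℕ, g ^ k • p = 0 := fun x => by
    obtain ⟨V, hV, hxV, e⟩ := unitSec_locally_injective P U p 0 (hp.trans (map_zero _).symm) x.1 x.2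
    obtain ⟨g, hxg, hgV⟩ := Groth.QCohMod.exists_basicOpen_mem hU x.2 hxV
    refine ⟨g, hxg, hP.exists_zero hU g p ?_⟩
    have := congrArg (pres P hgV) e
    simpa [pres_pres] using this
  choose g hg k hk using h
  have hrad : Ideal.span (Set.range g) ≤
      Ideal.radical (LinearMap.ker (LinearMap.toSpanSingleton Γ(X, U) (PSec P U) p)) :=
    Ideal.span_le.2 <| Set.range_subset_iff.2 fun x => ⟨k x, hk x⟩
  have htop : Ideal.span (Set.range g) = ⊤ := by
    rw [← hU.self_le_iSup_basicOpen_iff]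
    exact fun x hx => Opens.mem_iSup.2 ⟨⟨g ⟨x, hx⟩, ⟨_, rfl⟩⟩, hg ⟨x, hx⟩⟩
  obtain ⟨m, hm⟩ := hrad (htop.ge (Submodule.mem_top (x := (1 : Γ(X, U)))))
  rw [one_pow, LinearMap.mem_ker, LinearMap.toSpanSingleton_apply, one_smul] at hm
  exact hm

/-- Over an affine open sheafification does not change a localizing presheaf. -/
theorem unitSec_bijective : Function.Bijective (unitSec P U) := by
  classical
  refine ⟨unitSec_injective hP hU, fun s => ?_⟩
  have h (x : U) : ∃ (f : Γ(X, U)) (k : ℕ) (b : PSec P U), x.1 ∈ X.basicOpen f ∧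
      res _ (X.basicOpen_le f) (f ^ k • s) = res _ (X.basicOpen_le f) (unitSec P U b) := by
    obtain ⟨V, hV, p, hxV, hp⟩ := unitSec_locally_surjective P U s x.1 x.2
    obtain ⟨f, hxf, hfV⟩ := Groth.QCohMod.exists_basicOpen_mem hU x.2 hxV
    obtain ⟨k, b, hb⟩ := hP.exists_smul hU f (pres P hfV p)
    refine ⟨f, k, b, hxf, ?_⟩
    rw [res_smul, ← unitSec_res, hb, unitSec_smul, unitSec_res, hp, res_res, map_pow]
  choose f k b hxf hf using h
  obtain ⟨T, hT⟩ := hU.isCompact.elim_finite_subcover (fun x : U ↦ (X.basicOpen (f x) : Set X))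
    (fun x ↦ (X.basicOpen (f x)).2) (fun x hx ↦ Set.mem_iUnion.mpr ⟨⟨x, hx⟩, hxf ⟨x, hx⟩⟩)
  have hcomp (i j : U) : ∃ n : ℕ, (f i * f j) ^ n • (f j ^ k j • b i - f i ^ k i • b j) = 0 := by
    refine hP.exists_zero hU _ _ (unitSec_injective hP (hU.basicOpen _) ?_)
    have hi : X.basicOpen (f i * f j) ≤ X.basicOpen (f i) := by
      rw [X.basicOpen_mul]; exact inf_le_left
    have hj : X.basicOpen (f i * f j) ≤ X.basicOpen (f j) := by
      rw [X.basicOpen_mul]; exact inf_le_right
    have ei := congrArg (res _ hi) (hf i)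
    have ej := congrArg (res _ hj) (hf j)
    simp only [res_res, res_smul, resX_resX, map_pow] at ei ej
    rw [map_zero, unitSec_res, map_sub, unitSec_smul, unitSec_smul, ← KTheory.LocFree.qres_eq,
      map_sub, KTheory.LocFree.qres_eq, KTheory.LocFree.qres_eq, res_smul, res_smul, ← ei, ← ej,
      map_pow, map_pow, smul_comm, sub_self]
  choose n hn using hcomp
  set K := T.sup fun i ↦ T.sup fun j ↦ n i j with hK
  have hn' : ∀ i ∈ T, ∀ j ∈ T,
      f j ^ (K + k j) • f i ^ K • b i = f i ^ (K + k i) • f j ^ K • b j := by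
    intro i hi j hj
    have hle : n i j ≤ K :=
      (Finset.le_sup (f := fun j ↦ n i j) hj).trans (Finset.le_sup (f := fun i ↦ T.sup fun j ↦ n i j) hi)
    obtain ⟨l, hl⟩ := Nat.exists_eq_add_of_le hle
    have := congr((f i * f j) ^ l • $(hn i j))
    rw [smul_zero, ← mul_smul, ← pow_add, add_comm l, ← hl, smul_sub, sub_eq_zero] at this
    simp only [← mul_smul] at this ⊢
    refine Eq.trans (congr($(by ring) • b i)) (this.trans (congr($(by ring) • b j)))
  have hspan : Ideal.span ((fun i ↦ f i ^ (K + k i)) '' {i | i ∈ T}) = ⊤ := by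
    have htop : Ideal.span (f '' {i | i ∈ T}) = ⊤ := by
      rw [← hU.self_le_iSup_basicOpen_iff]
      intro x hx
      obtain ⟨y, hy, hxy⟩ := Set.mem_iUnion₂.mp (hT hx)
      exact Opens.mem_iSup.mpr ⟨⟨f y, y, hy, rfl⟩, hxy⟩
    rw [← Ideal.radical_eq_top, eq_top_iff, ← htop, Ideal.span_le]
    rintro _ ⟨i, hi, rfl⟩
    exact ⟨K + k i, Ideal.subset_span ⟨i, hi, rfl⟩⟩
  obtain ⟨c, hc, hsum⟩ := (Finsupp.mem_span_image_iff_linearCombination Γ(X, U)).mp
    (hspan.ge (Submodule.mem_top (x := (1 : Γ(X, U)))))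
  rw [Finsupp.linearCombination_apply, Finsupp.sum] at hsum
  refine ⟨∑ i ∈ c.support, c i • f i ^ K • b i,
    res_ext (fun i : T ↦ X.basicOpen (f i.1)) (fun i ↦ X.basicOpen_le _) (fun x hx ↦ ?_) ?_⟩
  · obtain ⟨y, hy, hxy⟩ := Set.mem_iUnion₂.mp (hT hx)
    exact Opens.mem_iSup.mpr ⟨⟨y, hy⟩, hxy⟩
  rintro ⟨j, hj⟩
  have hu : IsUnit (resX X (X.basicOpen_le (f j)) (f j)) := KTheory.LocFree.isUnit_resX hU _
  apply (hu.pow (K + k j)).smul_left_cancel.mp
  have hz : f j ^ (K + k j) • ∑ i ∈ c.support, c i • f i ^ K • b i = f j ^ K • b j := by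
    rw [Finset.smul_sum]
    trans (∑ i ∈ c.support, c i • f i ^ (K + k i)) • f j ^ K • b j
    · rw [Finset.sum_smul]
      refine Finset.sum_congr rfl fun i hi ↦ ?_
      rw [smul_comm, hn' i (hc hi) j hj, smul_eq_mul, mul_smul]
    · rw [hsum, one_smul]
  rw [← map_pow, ← res_smul, ← res_smul, ← unitSec_smul, hz, unitSec_smul, res_smul, ← hf j,
    ← res_smul, ← mul_smul, ← pow_add]

omit hU in
/-- The sheafification of a localizing presheaf is quasi-coherent. -/
theorem isQCoh_sheafify : (sheafify P).IsQuasicoherent := by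
  refine Groth.QCohMod.isQCoh_of_forall_affine _ (fun U hU f s ↦ ?_) (fun U hU f t ht ↦ ?_)
  · obtain ⟨w, rfl⟩ := (unitSec_bijective hP (hU.basicOpen f)).2 s
    obtain ⟨k, b, hb⟩ := hP.exists_smul hU f w
    refine ⟨k, unitSec P U b, ?_⟩
    rw [KTheory.LocFree.qres_eq, KTheory.LocFree.qresFun_eq, ← unitSec_res, hb, unitSec_smul]
  · obtain ⟨p, rfl⟩ := (unitSec_bijective hP hU).2 t
    rw [KTheory.LocFree.qres_eq, ← unitSec_res] at ht
    obtain ⟨k, hk⟩ := hP.exists_zero hU f p
      (unitSec_injective hP (hU.basicOpen f) (ht.trans (map_zero _).symm))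
    exact ⟨k, by rw [← unitSec_smul, hk, map_zero]⟩

end Groth.LocFree
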