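import Groth.Agent.LocFree.ExtBaseChange
import Groth.Agent.LocFree.Sheafify
import Groth.Agent.QCohMod.Sections
import Groth.Prelude.Def_ExtPow2

/-!
# The presheaf of exterior powers
-/

universe u

open CategoryTheory AlgebraicGeometry Opposite TopologicalSpace

namespace Groth.LocFree

open Groth.PicAux

variable {X : Scheme.{u}} (i : ℕ) (E : X.Modules)

/-- `⋀ⁱ Γ(E, U)`. -/
abbrev ESec (U : X.Opens) : Type u := ↥(⋀[Γ(X, U)]^i Γ(E, U))

/-- `e₁ ∧ ⋯ ∧ eᵢ` in `⋀ⁱ Γ(E, U)`. -/
noncomputable abbrev ewedge {U : X.Opens} (e : Fin i → Γ(E, U)) : ESec i E U :=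
  exteriorPower.ιMulti Γ(X, U) i e

/-- Restriction of exterior powers. -/
noncomputable def extRes {U V : X.Opens} (h : V ≤ U) : ESec i E U →ₛₗ[resX X h] ESec i E V :=
  letI : Algebra Γ(X, U) Γ(X, V) := (resX X h).toAlgebra
  letI : Module Γ(X, U) Γ(E, V) := Module.compHom _ (resX X h)
  haveI : IsScalarTower Γ(X, U) Γ(X, V) Γ(E, V) := ⟨fun r s m => mul_smul (resX X h r) s m⟩
  let f : Γ(E, U) →ₗ[Γ(X, U)] Γ(E, V) :=
    { toFun := res E h, map_add' := res_add h, map_smul' := res_smul h }
  { toFun := extMap (S := Γ(X, V)) i f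
    map_add' := map_add _
    map_smul' := fun r x => by
      rw [map_smul]
      exact (algebraMap_smul Γ(X, V) r (extMap (S := Γ(X, V)) i f x)).symm }

@[simp]
theorem extRes_ewedge {U V : X.Opens} (h : V ≤ U) (e : Fin i → Γ(E, U)) :
    extRes i E h (ewedge i E e) = ewedge i E fun j => res E h (e j) := by
  let _ : Algebra Γ(X, U) Γ(X, V) := (resX X h).toAlgebra
  let _ : Module Γ(X, U) Γ(E, V) := Module.compHom _ (resX X h)
  have : IsScalarTower Γ(X, U) Γ(X, V) Γ(E, V) := ⟨fun r s m => mul_smul (resX X h r) s m⟩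
  exact extMap_ιMulti (S := Γ(X, V)) i
    ({ toFun := res E h, map_add' := res_add h, map_smul' := res_smul h } :
      Γ(E, U) →ₗ[Γ(X, U)] Γ(E, V)) e

/-- Induction on exterior powers of sections. -/
@[elab_as_elim]
theorem esec_induction {U : X.Opens} {motive : ESec i E U → Prop} (x : ESec i E U)
    (wedge : ∀ e, motive (ewedge i E e)) (zero : motive 0)
    (add : ∀ a b, motive a → motive b → motive (a + b))
    (smul : ∀ (r : Γ(X, U)) a, motive a → motive (r • a)) : motive x := by
  have h : x ∈ Submodule.span Γ(X, U) (Set.range (exteriorPower.ιMulti Γ(X, U) i)) :=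
    (exteriorPower.ιMulti_span Γ(X, U) i Γ(E, U)).ge Submodule.mem_top
  induction h using Submodule.span_induction with
  | mem y hy => obtain ⟨e, rfl⟩ := hy; exact wedge e
  | zero => exact zero
  | add a b _ _ ha hb => exact add a b ha hb
  | smul r a _ ha => exact smul r a ha

theorem extRes_self {U : X.Opens} (x : ESec i E U) : extRes i E le_rfl x = x := by
  induction x using esec_induction with
  | wedge e => simp
  | zero => simp
  | add a b ha hb => rw [map_add, ha, hb]
  | smul r a ha => rw [map_smulₛₗ, ha, resX_self]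

theorem extRes_extRes {U V W : X.Opens} (h : V ≤ U) (h' : W ≤ V) (x : ESec i E U) :
    extRes i E h' (extRes i E h x) = extRes i E (h'.trans h) x := by
  induction x using esec_induction with
  | wedge e => simp
  | zero => simp
  | add a b ha hb => rw [map_add, map_add, ha, hb, map_add]
  | smul r a ha => rw [map_smulₛₗ, map_smulₛₗ, ha, map_smulₛₗ, resX_resX]

noncomputable instance esecModule (U : X.Opensᵒᵖ) :
    Module (X.ringCatSheaf.obj.obj U) (ESec i E U.unop) :=
  inferInstanceAs (Module Γ(X, U.unop) (ESec i E U.unop))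

/-- The presheaf `U ↦ ⋀ⁱ Γ(E, U)`. -/
noncomputable def extPre : X.PresheafOfModules where
  obj U := ModuleCat.of (X.ringCatSheaf.obj.obj U) (ESec i E U.unop)
  map {U V} j := ModuleCat.ofHom
    (Y := (ModuleCat.restrictScalars (X.ringCatSheaf.obj.map j).hom).obj
      (ModuleCat.of (X.ringCatSheaf.obj.obj V) (ESec i E V.unop)))
    { toFun := extRes i E j.unop.le
      map_add' := map_add _
      map_smul' := fun r x => map_smulₛₗ (extRes i E j.unop.le) r x }
  map_id U := by
    ext x
    exact extRes_self i E x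
  map_comp {U V W} j k := by
    ext x
    exact (extRes_extRes i E j.unop.le k.unop.le x).symm

theorem pres_extPre {U V : X.Opens} (h : V ≤ U) (x : ESec i E U) :
    pres (extPre i E) h x = extRes i E h x := rfl

/-- The `i`-th exterior power `⋀ⁱ E` as an `O_X`-module. -/
noncomputable def extPow : X.Modules := sheafify (extPre i E)

/-- The canonical map `⋀ⁱ Γ(E, U) → Γ(⋀ⁱ E, U)`. -/
noncomputable def extUnit (U : X.Opens) : ESec i E U →ₗ[Γ(X, U)] Γ(extPow i E, U) where
  toFun := unitSec (extPre i E) U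
  map_add' := map_add (unitSec (extPre i E) U)
  map_smul' r x := unitSec_smul (extPre i E) r x

theorem extUnit_res {U V : X.Opens} (h : V ≤ U) (x : ESec i E U) :
    extUnit i E V (extRes i E h x) = res _ h (extUnit i E U x) :=
  unitSec_res (extPre i E) h x

/-- The section `e₁ ∧ ⋯ ∧ eᵢ` of `⋀ⁱ E`. -/
noncomputable def wedge {U : X.Opens} (e : Fin i → Γ(E, U)) : Γ(extPow i E, U) :=
  extUnit i E U (ewedge i E e)

@[simp]
theorem res_wedge {U V : X.Opens} (h : V ≤ U) (e : Fin i → Γ(E, U)) :
    res _ h (wedge i E e) = wedge i E fun j => res E h (e j) := by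
  rw [wedge, ← extUnit_res, extRes_ewedge]
  rfl

section Affine

variable [E.IsQuasicoherent] {U : X.Opens} (hU : IsAffineOpen U)

/-- The presheaf of exterior powers of a quasi-coherent module is localizing on affine opens. -/
theorem isLocalizingPre_extPre : IsLocalizingPre (extPre i E) := by
  suffices h : ∀ {U : X.Opens}, IsAffineOpen U → ∀ (g : Γ(X, U)),
      (∀ t : ESec i E (X.basicOpen g), ∃ (k : ℕ) (b : ESec i E U),
        extRes i E (X.basicOpen_le g) b = resX X (X.basicOpen_le g) g ^ k • t) ∧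
      ∀ b : ESec i E U, extRes i E (X.basicOpen_le g) b = 0 → ∃ k : ℕ, g ^ k • b = 0 from
    ⟨fun hU g => (h hU g).1, fun hU g => (h hU g).2⟩
  intro U hU g
  let _ : Algebra Γ(X, U) Γ(X, X.basicOpen g) := (resX X (X.basicOpen_le g)).toAlgebra
  let _ : Module Γ(X, U) Γ(E, X.basicOpen g) := Module.compHom _ (resX X (X.basicOpen_le g))
  have : IsScalarTower Γ(X, U) Γ(X, X.basicOpen g) Γ(E, X.basicOpen g) :=
    ⟨fun r s m => mul_smul (resX X (X.basicOpen_le g) r) s m⟩
  let f : Γ(E, U) →ₗ[Γ(X, U)] Γ(E, X.basicOpen g) :=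
    { toFun := res E (X.basicOpen_le g)
      map_add' := res_add _
      map_smul' := res_smul _ }
  have hloc : IsLocalization (Submonoid.powers g) Γ(X, X.basicOpen g) := hU.isLocalization_basicOpen g
  have hu := KTheory.LocFree.isUnit_resX hU g
  have hf : IsLocalizedModule (Submonoid.powers g) f := by
    refine ⟨fun a => ?_, fun t => ?_, fun {b b'} hbb => ?_⟩
    · obtain ⟨_, k, rfl⟩ := a
      rw [Module.End.isUnit_iff]
      change Function.Bijective fun z : Γ(E, X.basicOpen g) => resX X (X.basicOpen_le g) (g ^ k) • z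
      rw [map_pow]
      exact (hu.pow k).smul_bijective
    · obtain ⟨k, b, hb⟩ := Groth.QCohMod.exists_pow_smul_eq_res E hU g t
      refine ⟨⟨b, ⟨g ^ k, k, rfl⟩⟩, ?_⟩
      rw [KTheory.LocFree.qres_eq, KTheory.LocFree.qresFun_eq, ← map_pow] at hb
      exact hb.symm
    · obtain ⟨k, hk⟩ := Groth.QCohMod.exists_pow_smul_eq_zero E hU g (b - b') (by
        rw [map_sub]
        exact sub_eq_zero.2 hbb)
      exact ⟨⟨g ^ k, k, rfl⟩, by rwa [smul_sub, sub_eq_zero] at hk⟩
  have := extMap_isLocalizedModule (S := Γ(X, X.basicOpen g)) i f (Submonoid.powers g)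
  refine ⟨fun t => ?_, fun b hb => ?_⟩
  · obtain ⟨⟨b, _, k, rfl⟩, hb⟩ :=
      IsLocalizedModule.surj (Submonoid.powers g) (extMap (S := Γ(X, X.basicOpen g)) i f) t
    refine ⟨k, b, Eq.trans hb.symm ?_⟩
    rw [Submonoid.smul_def, ← algebraMap_smul Γ(X, X.basicOpen g) (g ^ k) t, map_pow]
    rfl
  · obtain ⟨⟨_, k, rfl⟩, hk⟩ := (IsLocalizedModule.eq_zero_iff (Submonoid.powers g)
      (extMap (S := Γ(X, X.basicOpen g)) i f)).1 hb
    exact ⟨k, hk⟩

include hU in
theorem extUnit_bijective : Function.Bijective (extUnit i E U) :=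
  unitSec_bijective (isLocalizingPre_extPre i E) hU

theorem isQCoh_extPow : (extPow i E).IsQuasicoherent :=
  isQCoh_sheafify (isLocalizingPre_extPre i E)

/-- `⋀ⁱ E` is an `i`-th exterior power of a quasi-coherent `E`. -/
theorem isExtPow_extPow : ExtPow.IsExtPow i E (extPow i E) := by
  refine ⟨fun U => (LinearEquiv.ofBijective (extUnit i E U.1) (extUnit_bijective i E U.2)).symm,
    fun U V h e => ?_⟩
  exact res_wedge i E h e

end Affine

end Groth.LocFree
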