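import Groth.Agent.LocFree.ExtPow
import Mathlib.AlgebraicGeometry.Modules.Tilde

/-!
# Exterior powers of `M~`
-/

universe u

open CategoryTheory AlgebraicGeometry Opposite

namespace Groth.LocFree

/-- `(⋀ⁿ M)~` is an exterior power of `M~`. -/
theorem isExtPow_tilde {R : CommRingCat.{u}} (M : ModuleCat.{u} R) (n : ℕ) :
    ExtPow.IsExtPow n (tilde M) (tilde (ModuleCat.of R ↥(⋀[R]^n M))) := by
  let F := Groth.LocFree.extPow n (tilde M)
  have hF : F.IsQuasicoherent := Groth.LocFree.isQCoh_extPow n (tilde M)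
  let f : M →ₗ[R] Γ(tilde M, ⊤) := (tilde.toOpen M ⊤).hom
  have hf : Function.Bijective f :=
    ConcreteCategory.bijective_of_isIso (tilde.toOpen M ⊤)
  have hS : IsLocalization (⊥ : Submonoid R) Γ(Spec R, ⊤) := by
    have : Function.Bijective (algebraMap R Γ(Spec R, ⊤)) := by
      change Function.Bijective fun a : R =>
        ((Spec R).presheaf.map (⊤ : (Spec R).Opens).leTop.op) ((Scheme.ΓSpecIso (R)).inv a)
      simp only [show (⊤ : (Spec R).Opens).leTop.op = 𝟙 _ from rfl, CategoryTheory.Functor.map_id]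
      exact ConcreteCategory.bijective_of_isIso (Scheme.ΓSpecIso (R)).inv
    refine (isLocalization_iff _ _).2 ⟨fun y => ?_, fun z => ?_, fun {x y} h => ?_⟩
    · obtain rfl : y = 1 := Subtype.ext (Submonoid.mem_bot.1 y.2)
      simp
    · obtain ⟨a, rfl⟩ := this.2 z
      exact ⟨⟨a, 1⟩, by simp⟩
    · exact ⟨1, by simp [this.1 h]⟩
  have hM : IsLocalizedModule (⊥ : Submonoid R) f := by
    refine ⟨fun y => ?_, fun z => ?_, fun {x y} h => ?_⟩
    · obtain rfl : y = 1 := Subtype.ext (Submonoid.mem_bot.1 y.2)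
      simp
    · obtain ⟨a, rfl⟩ := hf.2 z
      exact ⟨⟨a, 1⟩, by simp⟩
    · exact ⟨1, by simp [hf.1 h]⟩
  have hb := Groth.LocFree.extMap_isLocalizedModule (S := Γ(Spec R, ⊤)) n f (⊥ : Submonoid R)
  have hext : Function.Bijective (Groth.LocFree.extMap (S := Γ(Spec R, ⊤)) n f) := by
    refine ⟨fun x y h => ?_, fun z => ?_⟩
    · obtain ⟨⟨c, hc⟩, e⟩ := (IsLocalizedModule.eq_iff_exists (⊥ : Submonoid R) _).1 h
      obtain rfl : c = 1 := Submonoid.mem_bot.1 hc
      simpa using e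
    · obtain ⟨⟨x, c, hc⟩, e⟩ := IsLocalizedModule.surj (⊥ : Submonoid R)
        (Groth.LocFree.extMap (S := Γ(Spec R, ⊤)) n f) z
      obtain rfl : c = 1 := Submonoid.mem_bot.1 hc
      exact ⟨x, by simpa using e.symm⟩
  let ε : (⋀[R]^n M) ≃ₗ[R] Γ(F, ⊤) :=
    (LinearEquiv.ofBijective _ hext).trans
      ((LinearEquiv.ofBijective (Groth.LocFree.extUnit n (tilde M) ⊤)
        (Groth.LocFree.extUnit_bijective n (tilde M) (isAffineOpen_top (Spec R)))).restrictScalars R)
  let η : ModuleCat.of R ↥(⋀[R]^n M) ≅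
      (modulesSpecToSheaf.obj F).presheaf.obj (.op ⊤) := ε.toModuleIso
  have : IsIso (Scheme.Modules.fromTildeΓ (R := R) F) :=
    @Scheme.Modules.isIso_fromTildeΓ_of_isQuasicoherent R F hF
  exact Groth.LocFree.isExtPow_of_iso
    ((tilde.functor (R)).mapIso η ≪≫ @asIso _ _ _ _ (Scheme.Modules.fromTildeΓ (R := R) F) this).symm
    (Groth.LocFree.isExtPow_extPow n (tilde M))

end Groth.LocFree
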